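import Cfsg.Agent.H438.RC.SymStmt

/-!
# S3510, family E, box E13 (`GraphSym`): the remaining pieces (helper438)

* `SymBeta` : (1b), from `DStmt`, `SmallStmt` (helper188);
* `SymGamma` : (1c), from `DSwapStmt`, `SmallStmt`, `GraphFourThree` (helper188);
* `SymThree`, `SymFour` : (1a) with planes, from `GDecStmt`, `DecStmt`, `SmallStmt` (helper398).
-/

set_option autoImplicit false

namespace Cfsg.Agent.H438.RC

open Matrix Cfsg Cfsg.Agent.LieClassical.HermBasic Cfsg.Agent.LieClassical.HermSiegel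
  Cfsg.Agent.ClassicalGeometry.PSUAutBasic Cfsg.Agent.ClassicalGeometry.PSUAutCount Cfsg.Agent.H380.RC

/-- (1b) -/
def SymBeta : Prop :=
  ∀ {G Ω : Type} [Group G] [Finite G] [Finite Ω] [Nonempty Ω] [MulAction G Ω] {N : Subgroup G} {F : Type} [Field F]
    [Fintype F] {n q : ℕ} (U : UEnv G Ω N F n q) {ι : Type} [Finite ι] (x : ι → G)
    (f : ι → (Fin n → F) → (Fin n → F)) (r : ι → ℕ) (i₀ : ι) (T g : (Fin n → F) → (Fin n → F)),
    Sym U x f r i₀ T g → H106.RC.IH (Nat.card (PSU n F q)) →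
    ∀ W W' : Submodule F (Fin n → F), TS q W → TS q W' → IsCompl W W' → Stab T W → Stab T W' →
      (∀ u, Cg g u → Stab u W ∧ Stab u W') → False

/-- (1c) -/
def SymGamma : Prop :=
  ∀ {G Ω : Type} [Group G] [Finite G] [Finite Ω] [Nonempty Ω] [MulAction G Ω] {N : Subgroup G} {F : Type} [Field F]
    [Fintype F] {n q : ℕ} (U : UEnv G Ω N F n q) {ι : Type} [Finite ι] (x : ι → G)
    (f : ι → (Fin n → F) → (Fin n → F)) (r : ι → ℕ) (i₀ : ι) (T g : (Fin n → F) → (Fin n → F)),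
    Sym U x f r i₀ T g → H106.RC.IH (Nat.card (PSU n F q)) →
    ∀ W W' : Submodule F (Fin n → F), TS q W → TS q W' → IsCompl W W' → (∀ v ∈ W, T v ∈ W') → (∀ v ∈ W', T v ∈ W) →
      (∀ u, Cg g u → Stab u W ∧ Stab u W') → False

/-- (1a), `n = 3`, no member of order `p` -/
def SymThree : Prop :=
  ∀ {G Ω : Type} [Group G] [Finite G] [Finite Ω] [Nonempty Ω] [MulAction G Ω] {N : Subgroup G} {F : Type} [Field F]
    [Fintype F] {n q : ℕ} (U : UEnv G Ω N F n q) {ι : Type} [Finite ι] (x : ι → G)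
    (f : ι → (Fin n → F) → (Fin n → F)) (r : ι → ℕ) (i₀ : ι) (T g : (Fin n → F) → (Fin n → F)),
    Sym U x f r i₀ T g → H106.RC.IH (Nat.card (PSU n F q)) → (∀ i, (r i).Coprime q) → n = 3 →
    ∀ A B : Submodule F (Fin n → F), NDeg q A → NDeg q B → IsCompl A B → Module.finrank F A = 2 →
      Module.finrank F B = 1 → (∀ v ∈ A, ∀ w ∈ B, hermForm n F q v w = 0) → Stab T A → Stab T B →
      (∀ u, Cg g u → Stab u A ∧ Stab u B) → False

/-- (1a), `n = 4`, no member of order `p` -/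
def SymFour : Prop :=
  ∀ {G Ω : Type} [Group G] [Finite G] [Finite Ω] [Nonempty Ω] [MulAction G Ω] {N : Subgroup G} {F : Type} [Field F]
    [Fintype F] {n q : ℕ} (U : UEnv G Ω N F n q) {ι : Type} [Finite ι] (x : ι → G)
    (f : ι → (Fin n → F) → (Fin n → F)) (r : ι → ℕ) (i₀ : ι) (T g : (Fin n → F) → (Fin n → F)),
    Sym U x f r i₀ T g → H106.RC.IH (Nat.card (PSU n F q)) → (∀ i, (r i).Coprime q) → n = 4 →
    ∀ A B : Submodule F (Fin n → F), NDeg q A → NDeg q B → IsCompl A B → Module.finrank F A = 2 →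
      Module.finrank F B = 2 → (∀ v ∈ A, ∀ w ∈ B, hermForm n F q v w = 0) → Stab T A → Stab T B →
      (∀ u, Cg g u → Stab u A ∧ Stab u B) → False

end Cfsg.Agent.H438.RC
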