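import Cfsg.Agent.H438.RC.SymZero
import Cfsg.Agent.H438.RC.SymStmtB

/-!
# S3510, E13, part (1a) (helper438)

* `three_le` : a `T`-stable nondegenerate subspace on which a unipotent isometry commuting with `T` acts nontrivially
  has dimension at least 3;
* `sym_alpha` : (1a) from `DecStmt`, `SmallStmt`, `SymThree`, `SymFour`.
-/

set_option autoImplicit false

namespace Cfsg.Agent.H438.RC

open Matrix Cfsg Cfsg.Agent.LieClassical.HermBasic Cfsg.Agent.LieClassical.HermSiegel
  Cfsg.Agent.LieClassical.HermGen Cfsg.Agent.LieClassical.SUBasic Cfsg.Agent.ClassicalGeometry.PSUAutBasic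
  Cfsg.Agent.ClassicalGeometry.PSUAutCount Cfsg.Agent.LieClassical.FieldTransfer Cfsg.Agent.ClassicalGeometry
  Cfsg.Agent.H380.RC

section geo

variable {F : Type*} [Field F] [Fintype F] {n q : ℕ} {T : (Fin n → F) → (Fin n → F)}

theorem three_le (hF : Fintype.card F = q ^ 2) (h2 : (2 : F) ≠ 0) (hT : SymT q T) {C : Submodule F (Fin n → F)}
    (hC : NDeg q C) (hTC : Stab T C) {u : (Fin n → F) → (Fin n → F)} (hadd : ∀ v w, u (v + w) = u v + u w)
    (hlin : Lin u) (hherm : ∀ v w, hermForm n F q (u v) (u w) = hermForm n F q v w) (hc : ∀ v, u (T v) = T (u v))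
    (hu : Stab u C) {M : ℕ} (hM : ∀ v, (fun v => u v - v)^[M] v = 0) (hne : ∃ v ∈ C, u v ≠ v) :
    3 ≤ Module.finrank F C := by
  have hu0 : u 0 = 0 := by
    have h1 := hlin 0 0
    rwa [zero_smul, zero_smul] at h1
  set δ : (Fin n → F) → (Fin n → F) := fun v => u v - v with hδdef
  have hδ : ∀ v, δ v = u v - v := fun v => rfl
  have hδ0 : δ 0 = 0 := by rw [hδ, hu0, sub_self]
  have hδadd : ∀ v w, δ (v + w) = δ v + δ w := by
    intro v w
    rw [hδ, hδ, hδ, hadd]
    abel
  have hδlin : Lin δ := by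
    intro c v
    rw [hδ, hδ, hlin, smul_sub]
  have hδT : ∀ v, δ (T v) = T (δ v) := by
    intro v
    rw [hδ, hδ, hc, hT.sub]
  have hδC : ∀ v ∈ C, δ v ∈ C := fun v hv => C.sub_mem (hu v hv) hv
  obtain ⟨w, hwC, hTw, hw⟩ : ∃ w ∈ C, T w = w ∧ δ w ≠ 0 := by
    by_contra hcon
    push Not at hcon
    obtain ⟨v, hv, hne⟩ := hne
    apply hne
    have h3 := hT.span hF (A := C) hTC hδadd hδlin hcon v hv
    rw [hδ] at h3
    exact sub_eq_zero.1 h3
  obtain ⟨m, hm1, hm2⟩ := exists_last (hM w) hδ0 hw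
  have h3 : ∀ m, T (δ^[m] w) = δ^[m] w ∧ δ^[m] w ∈ C := by
    intro m
    induction m with
    | zero => exact ⟨hTw, hwC⟩
    | succ m ih =>
      rw [Function.iterate_succ_apply', ← hδT, ih.1]
      exact ⟨rfl, hδC _ ih.2⟩
  obtain ⟨hTz, hzC⟩ := h3 m
  set z := δ^[m] w with hz
  obtain ⟨e, he⟩ : ∃ e, e = δ z := ⟨_, rfl⟩
  have he0 : e ≠ 0 := by rw [he]; exact hm1
  have heC : e ∈ C := by rw [he]; exact hδC _ hzC
  have hue : u e = e := by
    rw [← he] at hm2
    rw [hδ] at hm2
    exact sub_eq_zero.1 hm2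
  have hTe : T e = e := by rw [he, ← hδT, hTz]
  have huz : u z = z + e := by rw [he, hδ]; abel
  have hee : hermForm n F q e e = 0 := by
    nth_rewrite 1 [he]
    rw [hδ, herm_sub_left]
    nth_rewrite 1 [← hue]
    rw [hherm, sub_self]
  have hze : hermForm n F q z e = 0 := by
    have h4 := hherm z z
    rw [huz, herm_add_left, herm_add_right hF, herm_add_right hF, hee] at h4
    have h5 := hT.herm z e
    rw [hTz, hTe] at h5
    rw [herm_swap hF z e, ← h5] at h4
    have h6 : 2 * hermForm n F q z e = 0 := by linear_combination h4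
    exact (mul_eq_zero.1 h6).resolve_left h2
  by_contra hcon
  push Not at hcon
  -- `e`, `z` span `C`
  have hind : LinearIndependent F ![z, e] := by
    rw [LinearIndependent.pair_iff]
    intro a b hab
    have h4 := congrArg δ hab
    have he2 : δ e = 0 := by rw [hδ, hue, sub_self]
    rw [hδadd, hδlin, hδlin, ← he, he2, smul_zero, add_zero, hδ0] at h4
    have ha := (smul_eq_zero.1 h4).resolve_right he0
    rw [ha, zero_smul, zero_add] at hab
    exact ⟨ha, (smul_eq_zero.1 hab).resolve_right he0⟩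
  have hspan : Submodule.span F (Set.range ![z, e]) = C := by
    apply Submodule.eq_of_le_of_finrank_le
    · rw [Submodule.span_le]
      rintro _ ⟨i, rfl⟩
      fin_cases i
      · exact hzC
      · exact heC
    · rw [finrank_span_eq_card hind, Fintype.card_fin]
      omega
  apply he0
  apply hC e heC
  intro v hv
  rw [← hspan, Matrix.range_cons, Matrix.range_cons, Matrix.range_empty, Set.union_empty, Set.singleton_union,
    Submodule.mem_span_pair] at hv
  obtain ⟨a, b, rfl⟩ := hv
  rw [herm_add_right hF, herm_smul_right, herm_smul_right, hee, herm_eq_zero_swap hF hze, mul_zero, mul_zero, add_zero]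

end geo

section env

theorem two_ne {F : Type*} [Field F] [Fintype F] {q : ℕ} (hF : Fintype.card F = q ^ 2) (hq : Odd q) :
    (2 : F) ≠ 0 := by
  have h1 := UEnv.natCast_ne_zero hF Nat.prime_two (Nat.coprime_two_left.2 hq)
  exact_mod_cast h1

theorem sym_alpha (hDec : DecStmt) (hS : SmallStmt) (h3 : SymThree) (h4 : SymFour)
    {G Ω : Type} [Group G] [Finite G] [Finite Ω] [Nonempty Ω] [MulAction G Ω] {N : Subgroup G} {F : Type} [Field F]
    [Fintype F] {n q : ℕ} (U : UEnv G Ω N F n q) {ι : Type} [Finite ι] (x : ι → G)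
    (f : ι → (Fin n → F) → (Fin n → F)) (r : ι → ℕ) (i₀ : ι) (T g : (Fin n → F) → (Fin n → F))
    (hY : Sym U x f r i₀ T g) (hIH : H106.RC.IH (Nat.card (PSU n F q)))
    (A B : Submodule F (Fin n → F)) (hA : NDeg q A) (hB : NDeg q B) (hAB : IsCompl A B) (hA0 : A ≠ ⊥) (hB0 : B ≠ ⊥)
    (hort : ∀ v ∈ A, ∀ w ∈ B, hermForm n F q v w = 0) (hTA : Stab T A) (hTB : Stab T B)
    (hst : ∀ u, Cg g u → Stab u A ∧ Stab u B) : False := by
  have hF := U.hF
  have hfam := hY.gf.fam
  have hpf := hfam.pf
  have h2F := two_ne hF hY.odd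
  obtain ⟨b, hb0, hb⟩ := hY.gf.eq
  -- all members stabilise `A` and `B`
  have hstT : ∀ C : Submodule F (Fin n → F), Stab T C → Stab (f i₀) C := by
    intro C hC v hv
    have h5 := C.smul_mem b⁻¹ (hC v hv)
    rwa [hb, smul_smul, inv_mul_cancel₀ hb0, one_smul] at h5
  have hstab : ∀ i, Stab (f i) A ∧ Stab (f i) B := by
    intro i
    by_cases hi : i = i₀
    · subst hi
      exact ⟨hstT A hTA, hstT B hTB⟩
    · exact hst _ (hY.cg i hi)
  have hneT : A ≠ ⊤ ∧ B ≠ ⊤ := by
    constructor
    · rintro rfl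
      exact hB0 (by simpa using hAB.inf_eq_bot)
    · rintro rfl
      exact hA0 (by simpa using hAB.inf_eq_bot)
  have hlt : ∀ C : Submodule F (Fin n → F), C ≠ ⊤ → Module.finrank F C < n := by
    intro C hC
    have h5 := Submodule.finrank_lt hC
    rwa [Module.finrank_fin_fun] at h5
  have hsm := hS hF U.hn U.h32 hIH
  have hq2 : q ≠ 2 := by
    rintro rfl
    exact absurd hY.odd (by decide)
  -- DEC
  have hdec : ∀ C : Submodule F (Fin n → F), NDeg q C → C ≠ ⊤ → (∀ i, Stab (f i) C) → 3 ≤ Module.finrank F C →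
      (∀ i, ScalOn (f i) C → (r i).Coprime q) → False := by
    intro C hC hCt hCs hC3 hCr
    refine hDec U x f r hfam hY.cov ⟨C, hC, hCt, hC3, fun h => hq2 h.2, hCs, hCr, ?_⟩
    exact hsm.1 _ hC3 (hlt C hCt) (fun h => hq2 h.2)
  by_cases hu : ∃ j, j ≠ i₀ ∧ ¬ (r j).Coprime q
  · obtain ⟨j, hj0, hjq⟩ := hu
    obtain ⟨p, k, hp, hchar, hk, hk0⟩ := exists_prime_pow U.hF
    have hpF := Fact.mk hp
    have hrp : ∀ i, ¬ (r i).Coprime q → r i = p := by
      intro i hi
      rw [(hpf.prime i).coprime_iff_not_dvd, not_not, hk] at hi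
      exact (Nat.prime_dvd_prime_iff_eq (hpf.prime i) hp).1 ((hpf.prime i).dvd_of_dvd_pow hi)
    obtain ⟨l, hl⟩ := hfam.ord j
    rw [hrp j hjq] at hl
    have hL := hfam.lft j
    have hlin := hY.gf.lin j hj0
    have hun := unip (Ind.map_add hL) hlin hl
    have hone : ∀ C : Submodule F (Fin n → F), NDeg q C → C ≠ ⊤ → Stab T C → (∀ i, Stab (f i) C) →
        (∃ v ∈ C, f j v ≠ v) → False := by
      intro C hC hCt hTC hCs hne
      refine hdec C hC hCt hCs ?_ ?_
      · exact three_le hF h2F hY.symT hC hTC (Ind.map_add hL) hlin (herm_lin hL hlin) (hY.gf.comm j hj0) (hCs j)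
          hun hne
      · intro i hi
        by_contra hiq
        have hij : i = j := hpf.inj ((hrp i hiq).trans (hrp j hjq).symm)
        subst hij
        obtain ⟨c, hc⟩ := hi
        obtain ⟨v, hv, hvne⟩ := hne
        have hv0 : v ≠ 0 := by
          rintro rfl
          exact hvne (Ind.map_zero hL)
        -- `c ^ (p ^ l) = 1`
        have h5 : ∀ m, (f i)^[m] v = c ^ m • v := by
          intro m
          induction m with
          | zero => simp
          | succ m ih =>
            rw [Function.iterate_succ_apply', ih, hlin, hc v hv, smul_smul, pow_succ]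
        have h6 := h5 (p ^ l)
        rw [hl] at h6
        have h7 : (c ^ p ^ l - 1) • v = 0 := by rw [sub_smul, one_smul, ← h6, sub_self]
        have h8 := sub_eq_zero.1 ((smul_eq_zero.1 h7).resolve_right hv0)
        have h9 : (c - 1) ^ p ^ l = 0 := by rw [sub_pow_char_pow, h8, one_pow, sub_self]
        have h10 : c = 1 := sub_eq_zero.1 (pow_eq_zero_iff (pow_ne_zero _ hp.ne_zero) |>.1 h9)
        apply hvne
        rw [hc v hv, h10, one_smul]
    by_cases hneA : ∃ v ∈ A, f j v ≠ v
    · exact hone A hA hneT.1 hTA (fun i => (hstab i).1) hneA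
    by_cases hneB : ∃ v ∈ B, f j v ≠ v
    · exact hone B hB hneT.2 hTB (fun i => (hstab i).2) hneB
    push Not at hneA hneB
    apply hpf.ne j
    rw [hL.eq_one_iff]
    refine ⟨1, fun v => ?_⟩
    have h5 : v ∈ A ⊔ B := by rw [hAB.sup_eq_top]; exact Submodule.mem_top
    obtain ⟨a, ha, c, hc, rfl⟩ := Submodule.mem_sup.1 h5
    rw [Ind.map_add hL, hneA a ha, hneB c hc, one_smul]
  · push Not at hu
    have hall : ∀ i, (r i).Coprime q := by
      intro i
      by_cases hi : i = i₀
      · rw [hi, hY.gf.r2]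
        exact Nat.coprime_two_left.2 hY.odd
      · exact hu i hi
    by_cases hA3 : 3 ≤ Module.finrank F A
    · exact hdec A hA hneT.1 (fun i => (hstab i).1) hA3 fun i _ => hall i
    by_cases hB3 : 3 ≤ Module.finrank F B
    · exact hdec B hB hneT.2 (fun i => (hstab i).2) hB3 fun i _ => hall i
    have hsum := Submodule.finrank_add_eq_of_isCompl hAB
    rw [Module.finrank_fin_fun] at hsum
    have hn := U.hn
    have hort' : ∀ v ∈ B, ∀ w ∈ A, hermForm n F q v w = 0 := fun v hv w hw => herm_eq_zero_swap hF (hort w hw v hv)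
    by_cases hA2 : Module.finrank F A = 2
    · by_cases hB2 : Module.finrank F B = 2
      · exact h4 U x f r i₀ T g hY hIH hall (by omega) A B hA hB hAB hA2 hB2 hort hTA hTB hst
      · exact h3 U x f r i₀ T g hY hIH hall (by omega) A B hA hB hAB hA2 (by omega) hort hTA hTB hst
    · exact h3 U x f r i₀ T g hY hIH hall (by omega) B A hB hA hAB.symm (by omega) (by omega) hort' hTB hTA
        fun u hu => (hst u hu).symm

end env

end Cfsg.Agent.H438.RC
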