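import Cfsg.Agent.H438.RC.SymStmt

/-!
# S3510, family E, box E13 (`GraphSym`): the case (d) with the dimension (helper438)

The same as `StrTStmt`, `SymDelta`, with `3 ≤ finrank F V₁` in the second alternative of (d).
-/

set_option autoImplicit false

namespace Cfsg.Agent.H438.RC

open Matrix Cfsg Cfsg.Agent.LieClassical.HermBasic Cfsg.Agent.LieClassical.HermSiegel
  Cfsg.Agent.ClassicalGeometry.PSUAutBasic Cfsg.Agent.ClassicalGeometry.PSUAutCount Cfsg.Agent.H380.RC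

/-- STR-T (helper398) : the case split -/
def StrTStmtB : Prop :=
  ∀ {F : Type} [Field F] [Fintype F] {n q : ℕ} (_ : Fintype.card F = q ^ 2) (_ : Odd q)
    (T g : (Fin n → F) → (Fin n → F)), SymT q T → SymG q T g → (∃ v, g v ≠ v) →
    -- (a)
    (∃ A B : Submodule F (Fin n → F), NDeg q A ∧ NDeg q B ∧ IsCompl A B ∧ A ≠ ⊥ ∧ B ≠ ⊥ ∧
      (∀ v ∈ A, ∀ w ∈ B, hermForm n F q v w = 0) ∧ Stab T A ∧ Stab T B ∧ ∀ u, Cg g u → Stab u A ∧ Stab u B) ∨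
    -- (b)
    (∃ W W' : Submodule F (Fin n → F), TS q W ∧ TS q W' ∧ IsCompl W W' ∧ Stab T W ∧ Stab T W' ∧
      ∀ u, Cg g u → Stab u W ∧ Stab u W') ∨
    -- (c)
    (∃ W W' : Submodule F (Fin n → F), TS q W ∧ TS q W' ∧ IsCompl W W' ∧ (∀ v ∈ W, T v ∈ W') ∧ (∀ v ∈ W', T v ∈ W) ∧
      ∀ u, Cg g u → Stab u W ∧ Stab u W') ∨
    -- (d)
    (∃ V₁ V₂ : Submodule F (Fin n → F), NDeg q V₁ ∧ NDeg q V₂ ∧ IsCompl V₁ V₂ ∧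
      (∀ v ∈ V₁, ∀ w ∈ V₂, hermForm n F q v w = 0) ∧ (∀ v ∈ V₁, T v ∈ V₂) ∧ (∀ v ∈ V₂, T v ∈ V₁) ∧
      (∀ u, Cg g u → Stab u V₁ ∧ Stab u V₂) ∧
      (ScalOn g V₁ ∨ 3 ≤ Module.finrank F V₁ ∧ ∃ (s : SU n F q) (g₀ : (Fin n → F) → (Fin n → F)),
        (∀ v ∈ V₂, act s v = v) ∧
        (∀ u, Cg g u → ∀ v, act s (u v) = u (act s v)) ∧ ¬ ScalOn (act s) V₁ ∧
        (∀ v w, g₀ (v + w) = g₀ v + g₀ w) ∧ Lin g₀ ∧ Stab g₀ V₁ ∧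
        (∀ v ∈ V₁, ∀ w ∈ V₁, hermForm n F q (g₀ v) (g₀ w) = hermForm n F q v w) ∧
        ∃ k l : ℕ, ∀ v ∈ V₁, g v = g₀^[k] v ∧ act s v = g₀^[l] v))

/-- (1d) : `V = V₁ ⟂ V₂`, `T` interchanges `V₁` and `V₂` -/
def SymDeltaB : Prop :=
  ∀ {G Ω : Type} [Group G] [Finite G] [Finite Ω] [Nonempty Ω] [MulAction G Ω] {N : Subgroup G} {F : Type} [Field F]
    [Fintype F] {n q : ℕ} (U : UEnv G Ω N F n q) {ι : Type} [Finite ι] (x : ι → G)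
    (f : ι → (Fin n → F) → (Fin n → F)) (r : ι → ℕ) (i₀ : ι) (T g : (Fin n → F) → (Fin n → F)),
    Sym U x f r i₀ T g → H106.RC.IH (Nat.card (PSU n F q)) →
    ∀ V₁ V₂ : Submodule F (Fin n → F), NDeg q V₁ → NDeg q V₂ → IsCompl V₁ V₂ →
      (∀ v ∈ V₁, ∀ w ∈ V₂, hermForm n F q v w = 0) → (∀ v ∈ V₁, T v ∈ V₂) → (∀ v ∈ V₂, T v ∈ V₁) →
      (∀ u, Cg g u → Stab u V₁ ∧ Stab u V₂) →
      (ScalOn g V₁ ∨ 3 ≤ Module.finrank F V₁ ∧ ∃ (s : SU n F q) (g₀ : (Fin n → F) → (Fin n → F)),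
        (∀ v ∈ V₂, act s v = v) ∧
        (∀ u, Cg g u → ∀ v, act s (u v) = u (act s v)) ∧ ¬ ScalOn (act s) V₁ ∧
        (∀ v w, g₀ (v + w) = g₀ v + g₀ w) ∧ Lin g₀ ∧ Stab g₀ V₁ ∧
        (∀ v ∈ V₁, ∀ w ∈ V₁, hermForm n F q (g₀ v) (g₀ w) = hermForm n F q v w) ∧
        ∃ k l : ℕ, ∀ v ∈ V₁, g v = g₀^[k] v ∧ act s v = g₀^[l] v) → False

end Cfsg.Agent.H438.RC
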