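import Cfsg.Agent.H438.RC.SymGen
import Cfsg.Agent.H438.RC.SymAlpha
import Cfsg.Agent.H438.RC.SymStmtC
import Cfsg.Agent.H398.RC.StrT

/-!
# S3510, E13, part (1d): `V = V₁ ⟂ V₂`, `T` interchanges `V₁` and `V₂` (helper438)
-/

set_option autoImplicit false

namespace Cfsg.Agent.H438.RC

open Matrix Cfsg Cfsg.Agent.LieClassical.HermBasic Cfsg.Agent.LieClassical.HermSiegel
  Cfsg.Agent.LieClassical.HermGen Cfsg.Agent.LieClassical.SUBasic Cfsg.Agent.ClassicalGeometry.PSUAutBasic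
  Cfsg.Agent.ClassicalGeometry.PSUAutCount Cfsg.Agent.LieClassical.FieldTransfer Cfsg.Agent.ClassicalGeometry
  Cfsg.Agent.H380.RC

section geo

variable {F : Type} [Field F] [Fintype F] {n q : ℕ} {T g : (Fin n → F) → (Fin n → F)}
  {V₁ V₂ : Submodule F (Fin n → F)}

/-- `T` interchanges `V₁` and `V₂` : equal dimensions -/
theorem finrank_swap (hT : SymT q T) (h1 : ∀ v ∈ V₁, T v ∈ V₂) (h2 : ∀ v ∈ V₂, T v ∈ V₁) :
    Module.finrank F V₁ = Module.finrank F V₂ := by
  have h3 : Nat.card V₁ = Nat.card V₂ := by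
    refine Nat.card_congr ⟨fun v => ⟨T v, h1 v v.2⟩, fun v => ⟨T v, h2 v v.2⟩, fun v => Subtype.ext (hT.TT v),
      fun v => Subtype.ext (hT.TT v)⟩
  rw [Module.natCard_eq_pow_finrank (K := F), Module.natCard_eq_pow_finrank (K := F) (V := V₂)] at h3
  exact Nat.pow_right_injective (by rw [Nat.card_eq_fintype_card]; exact Fintype.one_lt_card) h3

theorem two_le_finrank (hn : 3 ≤ n) (hT : SymT q T) (hc : IsCompl V₁ V₂) (h1 : ∀ v ∈ V₁, T v ∈ V₂)
    (h2 : ∀ v ∈ V₂, T v ∈ V₁) : 2 ≤ Module.finrank F V₁ ∧ Module.finrank F V₁ < n := by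
  have h3 := Submodule.finrank_add_eq_of_isCompl hc
  rw [Module.finrank_fin_fun, ← finrank_swap hT h1 h2] at h3
  omega

/-- a scalar isometry on a nondegenerate subspace has norm one -/
theorem norm_scal (hF : Fintype.card F = q ^ 2) (h1 : NDeg q V₁) (hne : V₁ ≠ ⊥)
    {u : (Fin n → F) → (Fin n → F)} (hu : ∀ v w, hermForm n F q (u v) (u w) = hermForm n F q v w) {c : F}
    (hc : ∀ v ∈ V₁, u v = c • v) : c * c ^ q = 1 := by
  obtain ⟨v, hv, hv0⟩ := (Submodule.ne_bot_iff _).1 hne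
  have h2 : ∃ w ∈ V₁, hermForm n F q v w ≠ 0 := by
    by_contra hcon
    push Not at hcon
    exact hv0 (h1 v hv hcon)
  obtain ⟨w, hw, hvw⟩ := h2
  have h3 := hu v w
  rw [hc v hv, hc w hw, herm_smul_left, herm_smul_right, ← mul_assoc] at h3
  have h4 : (c * c ^ q - 1) * hermForm n F q v w = 0 := by rw [sub_mul, h3]; ring
  exact sub_eq_zero.1 ((mul_eq_zero.1 h4).resolve_right hvw)

/-- `q ≠ 3` if `g` is a scalar on `V₁` -/
theorem q_ne_three (hF : Fintype.card F = q ^ 2) (hT : SymT q T) (hg : SymG q T g) (hne : ∃ v, g v ≠ v)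
    (h1 : NDeg q V₁) (hV : V₁ ≠ ⊥) (hc : IsCompl V₁ V₂) (h4 : ∀ v ∈ V₂, T v ∈ V₁) (hs : ScalOn g V₁) : q ≠ 3 := by
  rintro rfl
  obtain ⟨c, hc'⟩ := hs
  obtain ⟨m, hm, -, hgm⟩ := hg.ord
  have hn := norm_scal hF h1 hV hg.herm hc'
  obtain ⟨v, hv, hv0⟩ := (Submodule.ne_bot_iff _).1 hV
  have h5 : ∀ m, g^[m] v = c ^ m • v := by
    intro m
    induction m with
    | zero => simp
    | succ m ih => rw [Function.iterate_succ_apply', ih, hg.lin, hc' v hv, smul_smul, pow_succ]
  have h6 := h5 m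
  rw [hgm] at h6
  have h7 : (c ^ m - 1) • v = 0 := by rw [sub_smul, one_smul, ← h6, sub_self]
  have h8 := sub_eq_zero.1 ((smul_eq_zero.1 h7).resolve_right hv0)
  have h9 : c ^ 4 = 1 := by rw [← hn]; ring
  have h10 : c = 1 := by
    have h11 : orderOf c ∣ m := orderOf_dvd_of_pow_eq_one h8
    have h12 : orderOf c ∣ 4 := orderOf_dvd_of_pow_eq_one h9
    have h13 : m.Coprime 4 := by
      have : (4 : ℕ) = 2 ^ 2 := rfl
      rw [this]
      exact Nat.Coprime.pow_right _ (Nat.coprime_two_right.2 hm)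
    rw [← orderOf_eq_one_iff]
    exact Nat.eq_one_of_dvd_coprimes h13 h11 h12
  obtain ⟨w, hw⟩ := hne
  apply hw
  have h11 : w ∈ V₁ ⊔ V₂ := by rw [hc.sup_eq_top]; exact Submodule.mem_top
  obtain ⟨a, ha, b, hb, rfl⟩ := Submodule.mem_sup.1 h11
  have h12 : g b = b := by
    have h13 := hc' _ (h4 b hb)
    rw [h10, one_smul, hg.comm] at h13
    exact hT.inj h13
  rw [hg.add, hc' a ha, h10, one_smul, h12]

/-- a nondegenerate space of dimension at least 2 contains a singular vector -/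
theorem exists_sing (hF : Fintype.card F = q ^ 2) (h1 : NDeg q V₁) (hd : 2 ≤ Module.finrank F V₁) :
    ∃ e ∈ V₁, e ≠ 0 ∧ hermForm n F q e e = 0 := by
  have hbot : V₁ ≠ ⊥ := by
    rintro rfl
    rw [finrank_bot] at hd
    omega
  obtain ⟨v, hv, hv0⟩ := (Submodule.ne_bot_iff _).1 hbot
  by_cases hvv : hermForm n F q v v = 0
  · exact ⟨v, hv, hv0, hvv⟩
  -- a vector orthogonal to `v`
  obtain ⟨w, hw, hw0, hwv⟩ : ∃ w ∈ V₁, w ≠ 0 ∧ hermForm n F q w v = 0 := by
    by_contra hcon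
    push Not at hcon
    have h2 : V₁ ≤ Submodule.span F {v} := by
      intro w hw
      have h3 : w - (hermForm n F q w v * (hermForm n F q v v)⁻¹) • v = 0 := by
        by_contra h4
        apply hcon _ (V₁.sub_mem hw (V₁.smul_mem _ hv)) h4
        rw [herm_sub_left, herm_smul_left, mul_assoc, inv_mul_cancel₀ hvv, mul_one, sub_self]
      rw [Submodule.mem_span_singleton]
      exact ⟨_, (sub_eq_zero.1 h3).symm⟩
    have h3 := Submodule.finrank_mono h2
    have h4 : Module.finrank F (Submodule.span F {v}) ≤ 1 := by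
      refine (finrank_span_le_card (R := F) ({v} : Set (Fin n → F))).trans ?_
      simp
    omega
  by_cases hww : hermForm n F q w w = 0
  · exact ⟨w, hw, hw0, hww⟩
  obtain ⟨t, ht⟩ := exists_norm_eq hF (c := -(hermForm n F q v v * (hermForm n F q w w)⁻¹)) (by
    rw [neg_pow_q hF, mul_pow, inv_pow, herm_self_pow hF, herm_self_pow hF])
  refine ⟨v + t • w, V₁.add_mem hv (V₁.smul_mem _ hw), ?_, ?_⟩
  · intro h0
    have h2 := congrArg (fun z => hermForm n F q z v) h0
    simp only [herm_add_left, herm_smul_left, hwv, mul_zero, add_zero, herm_zero_left] at h2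
    exact hvv h2
  · rw [herm_add_left, herm_add_right hF, herm_add_right hF, herm_smul_left, herm_smul_left, herm_smul_right,
      herm_smul_right, hwv, herm_eq_zero_swap hF hwv]
    have h2 : t * (t ^ q * hermForm n F q w w) = -hermForm n F q v v := by
      rw [← mul_assoc, ht, neg_mul, mul_assoc, inv_mul_cancel₀ hww, mul_one]
    rw [h2]
    ring

end geo

section main

theorem dfin (hG : GDecStmt) (hS : SmallStmt)
    {G Ω : Type} [Group G] [Finite G] [Finite Ω] [Nonempty Ω] [MulAction G Ω] {N : Subgroup G} {F : Type} [Field F]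
    [Fintype F] {n q : ℕ} (U : UEnv G Ω N F n q) {ι : Type} [Finite ι] (x : ι → G)
    (f : ι → (Fin n → F) → (Fin n → F)) (r : ι → ℕ) (i₀ : ι) (T g : (Fin n → F) → (Fin n → F))
    (hY : Sym U x f r i₀ T g) (hIH : H106.RC.IH (Nat.card (PSU n F q)))
    {V₁ V₂ : Submodule F (Fin n → F)} (h1 : NDeg q V₁) (hc : IsCompl V₁ V₂)
    (hT1 : ∀ v ∈ V₁, T v ∈ V₂) (hT2 : ∀ v ∈ V₂, T v ∈ V₁) (hst : ∀ u, Cg g u → Stab u V₁ ∧ Stab u V₂)
    {s : SU n F q} (hs2 : ∀ v ∈ V₂, act s v = v) (hsf : ∀ j, j ≠ i₀ → ∀ v, act s (f j v) = f j (act s v))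
    (hs1 : Stab (act s) V₁) (hsn : ¬ ScalOn (act s) V₁)
    {g₀ : (Fin n → F) → (Fin n → F)} (hadd : ∀ v w, g₀ (v + w) = g₀ v + g₀ w) (hlin : Lin g₀) (hstab : Stab g₀ V₁)
    (hiso : ∀ v ∈ V₁, ∀ w ∈ V₁, hermForm n F q (g₀ v) (g₀ w) = hermForm n F q v w)
    (hs0 : ∃ (k : ℕ) (c : F), ∀ v ∈ V₁, act s v = c • g₀^[k] v)
    (hf0 : ∀ j, j ≠ i₀ → ∃ (k : ℕ) (c : F), ∀ v ∈ V₁, f j v = c • g₀^[k] v)
    (hsc : ∀ j, j ≠ i₀ → ScalOn (f j) V₁ → (r j).Coprime q)
    (hd : 3 ≤ Module.finrank F V₁ ∨ (q ≠ 3 ∧ ∃ r k : ℕ, r.Prime ∧ ∃ c : F, ∀ v ∈ V₁, g₀^[r ^ k] v = c • v)) :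
    False := by
  classical
  have hF := U.hF
  have hT := hY.symT
  have hfam := hY.gf.fam
  have hpf := hfam.pf
  have hLT := lft_T hY.gf hT
  obtain ⟨s', hs'⟩ := hLT.exists_conj s
  have hs'' : ∀ v, T (act s (T v)) = act s' v := by
    intro v
    rw [hs', hT.TT]
  have hz := comm_T hY.gf hT hs''
  -- the action on `V₁`
  have hV : ∀ v ∈ V₁, act (s * s'⁻¹) v = act s v := by
    intro v hv
    have h3 : act s' v = v := by rw [← hs'', hs2 _ (hT1 v hv), hT.TT]
    have h4 : act s'⁻¹ v = v := by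
      conv_lhs => rw [← h3]
      exact act_inv_act s' v
    rw [act_mul, h4]
  have hcommS' : ∀ j, j ≠ i₀ → ∀ v, act s' (f j v) = f j (act s' v) := by
    intro j hj v
    rw [← hs'', ← hs'', ← hY.gf.comm j hj, hsf j hj, hY.gf.comm j hj]
  have hcommZ : ∀ j, j ≠ i₀ → ∀ v, act (s * s'⁻¹) (f j v) = f j (act (s * s'⁻¹) v) := by
    intro j hj v
    have h3 : act s'⁻¹ (f j v) = f j (act s'⁻¹ v) := by
      apply act_injective s'
      rw [act_act_inv, hcommS' j hj, act_act_inv]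
    rw [act_mul, act_mul, h3, hsf j hj]
  have hnsZ : ¬ ScalOn (act (s * s'⁻¹)) V₁ := by
    rintro ⟨c, hc'⟩
    exact hsn ⟨c, fun v hv => by rw [← hV v hv, hc' v hv]⟩
  -- the new family
  set y : ι → G := Function.update x i₀ (U.el (s * s'⁻¹)) with hy
  set fy : ι → (Fin n → F) → (Fin n → F) := Function.update f i₀ (act (s * s'⁻¹)) with hfy
  have hy0 : y i₀ = U.el (s * s'⁻¹) := by rw [hy, Function.update_self]
  have hf00 : fy i₀ = act (s * s'⁻¹) := by rw [hfy, Function.update_self]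
  have hyj : ∀ j, j ≠ i₀ → y j = x j := fun j hj => by rw [hy, Function.update_of_ne hj]
  have hfyj : ∀ j, j ≠ i₀ → fy j = f j := fun j hj => by rw [hfy, Function.update_of_ne hj]
  have hcov : H106.RC.Cov Ω y := by
    have h3 := hY.cov.mv_comm i₀ (c := U.el s) (fun j hj => by
      refine comm_el (hfam.lft j) fun v => ?_
      rw [hsf j hj])
    rwa [hz] at h3
  have hfamy : GFam U y fy := by
    refine ⟨fun i => ?_, fun i => ?_, fun i j v => ?_⟩
    · by_cases hi : i = i₀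
      · rw [hi, hy0]
        intro h3
        obtain ⟨c, hc'⟩ := (U.lft_el (s * s'⁻¹)).eq_one_iff.1 h3
        exact hnsZ ⟨c, fun v _ => hc' v⟩
      · rw [hyj i hi]
        exact hpf.ne i
    · by_cases hi : i = i₀
      · rw [hi, hy0, hf00]
        exact U.lft_el _
      · rw [hyj i hi, hfyj i hi]
        exact hfam.lft i
    · by_cases hi : i = i₀
      · by_cases hj : j = i₀
        · rw [hi, hj]
        · rw [hi, hf00, hfyj j hj, hcommZ j hj]
      · by_cases hj : j = i₀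
        · rw [hj, hf00, hfyj i hi, hcommZ i hi]
        · rw [hfyj i hi, hfyj j hj, hfam.comm]
  obtain ⟨hd2, hdn⟩ := two_le_finrank U.hn hT hc hT1 hT2
  have hq2 : q ≠ 2 := by
    rintro rfl
    exact absurd hY.odd (by decide)
  have hqq := two_le hF
  refine hG U y fy hfamy hcov V₁ g₀ h1 ?_ hd2 (fun h => hq2 h.2) ?_ ?_ ?_ hadd hlin hstab hiso ?_ ?_
  · rintro rfl
    rw [finrank_top, Module.finrank_fin_fun] at hdn
    omega
  · rintro ⟨h3, h4⟩
    rcases hd with h5 | ⟨h5, -⟩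
    · omega
    · omega
  · intro i
    by_cases hi : i = i₀
    · rw [hi, hf00]
      refine ⟨fun c v => act_smul _ _ _, fun v hv => ?_⟩
      rw [hV v hv]
      exact hs1 v hv
    · rw [hfyj i hi]
      exact ⟨hY.gf.lin i hi, (hst _ (hY.cg i hi)).1⟩
  · intro i hi'
    by_cases hi : i = i₀
    · rw [hi, hf00] at hi'
      exact absurd hi' hnsZ
    · rw [hfyj i hi] at hi'
      rw [hyj i hi]
      exact ⟨r i, hpf.prime i, hsc i hi hi', hpf.pow i⟩
  · intro i
    by_cases hi : i = i₀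
    · rw [hi, hf00]
      obtain ⟨k, c, h3⟩ := hs0
      exact ⟨k, c, fun v hv => by rw [hV v hv, h3 v hv]⟩
    · rw [hfyj i hi]
      exact hf0 i hi
  · rcases hd with h3 | ⟨-, h3⟩
    · exact Or.inl ⟨h3, (hS hF U.hn U.h32 hIH).1 _ h3 hdn fun h => hq2 h.2⟩
    · exact Or.inr (Or.inr h3)

/-- T6 : a member of order `p` -/
theorem dT6 (hG : GDecStmt) (hS : SmallStmt)
    {G Ω : Type} [Group G] [Finite G] [Finite Ω] [Nonempty Ω] [MulAction G Ω] {N : Subgroup G} {F : Type} [Field F]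
    [Fintype F] {n q : ℕ} (U : UEnv G Ω N F n q) {ι : Type} [Finite ι] (x : ι → G)
    (f : ι → (Fin n → F) → (Fin n → F)) (r : ι → ℕ) (i₀ : ι) (T g : (Fin n → F) → (Fin n → F))
    (hY : Sym U x f r i₀ T g) (hIH : H106.RC.IH (Nat.card (PSU n F q)))
    {V₁ V₂ : Submodule F (Fin n → F)} (h1 : NDeg q V₁) (hc : IsCompl V₁ V₂)
    (hort : ∀ v ∈ V₁, ∀ w ∈ V₂, hermForm n F q v w = 0)
    (hT1 : ∀ v ∈ V₁, T v ∈ V₂) (hT2 : ∀ v ∈ V₂, T v ∈ V₁) (hst : ∀ u, Cg g u → Stab u V₁ ∧ Stab u V₂)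
    (hsg : ScalOn g V₁ ∨ 3 ≤ Module.finrank F V₁) {j : ι} (hj0 : j ≠ i₀) (hjq : ¬ (r j).Coprime q) : False := by
  classical
  have hF := U.hF
  have hT := hY.symT
  have hg := hY.symG
  have hfam := hY.gf.fam
  have hpf := hfam.pf
  obtain ⟨p, k, hp, hchar, hk, hk0⟩ := exists_prime_pow U.hF
  have hpF := Fact.mk hp
  have hrp : ∀ i, ¬ (r i).Coprime q → r i = p := by
    intro i hi
    rw [(hpf.prime i).coprime_iff_not_dvd, not_not, hk] at hi
    exact (Nat.prime_dvd_prime_iff_eq (hpf.prime i) hp).1 ((hpf.prime i).dvd_of_dvd_pow hi)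
  have hjj : ∀ i, ¬ (r i).Coprime q → i = j := fun i hi => hpf.inj ((hrp i hi).trans (hrp j hjq).symm)
  obtain ⟨l, hl⟩ := hfam.ord j
  rw [hrp j hjq] at hl
  have hL := hfam.lft j
  have hlin := hY.gf.lin j hj0
  have hadd := Ind.map_add hL
  have hher := herm_lin hL hlin
  obtain ⟨hd2, hdn⟩ := two_le_finrank U.hn hT hc hT1 hT2
  have hV0 : V₁ ≠ ⊥ := by
    rintro rfl
    rw [finrank_bot] at hd2
    omega
  obtain ⟨hu1, hu2⟩ := hst _ (hY.cg j hj0)
  -- `u` is not a scalar on `V₁`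
  have hnsc : ¬ ScalOn (f j) V₁ := by
    rintro ⟨c, hc'⟩
    obtain ⟨v, hv, hv0⟩ := (Submodule.ne_bot_iff _).1 hV0
    have h5 : ∀ m, (f j)^[m] v = c ^ m • v := by
      intro m
      induction m with
      | zero => simp
      | succ m ih => rw [Function.iterate_succ_apply', ih, hlin, hc' v hv, smul_smul, pow_succ]
    have h6 := h5 (p ^ l)
    rw [hl] at h6
    have h7 : (c ^ p ^ l - 1) • v = 0 := by rw [sub_smul, one_smul, ← h6, sub_self]
    have h8 := sub_eq_zero.1 ((smul_eq_zero.1 h7).resolve_right hv0)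
    have h9 : (c - 1) ^ p ^ l = 0 := by rw [sub_pow_char_pow, h8, one_pow, sub_self]
    have h10 : c = 1 := sub_eq_zero.1 (pow_eq_zero_iff (pow_ne_zero _ hp.ne_zero) |>.1 h9)
    apply hpf.ne j
    rw [hL.eq_one_iff]
    refine ⟨1, fun w => ?_⟩
    have h11 : w ∈ V₁ ⊔ V₂ := by rw [hc.sup_eq_top]; exact Submodule.mem_top
    obtain ⟨a, ha, b, hb, rfl⟩ := Submodule.mem_sup.1 h11
    have h12 : f j b = b := by
      have h13 := hc' _ (hT2 b hb)
      rw [h10, one_smul, hY.gf.comm j hj0] at h13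
      exact hT.inj h13
    rw [hadd, hc' a ha, h10, one_smul, h12, one_smul]
  -- the element `(u, 1)`
  let P : Module.End F (Fin n → F) := V₁.projection V₂ hc
  have hP1 : ∀ v, P v ∈ V₁ := fun v => Submodule.projection_apply_mem hc v
  have hP2 : ∀ v ∈ V₁, P v = v := fun v hv => Submodule.projection_apply_of_mem_left hc hv
  have hP3 : ∀ v ∈ V₂, P v = 0 := fun v hv => Submodule.projection_apply_right hc ⟨v, hv⟩
  have hP4 : ∀ v, v - P v ∈ V₂ := by
    intro v
    have h11 : v ∈ V₁ ⊔ V₂ := by rw [hc.sup_eq_top]; exact Submodule.mem_top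
    obtain ⟨a, ha, b, hb, rfl⟩ := Submodule.mem_sup.1 h11
    rw [map_add, hP2 a ha, hP3 b hb, add_zero, add_sub_cancel_left]
    exact hb
  have hPf : ∀ i, i ≠ i₀ → ∀ v, P (f i v) = f i (P v) := by
    intro i hi v
    obtain ⟨h3, h4⟩ := hst _ (hY.cg i hi)
    have h5 : f i v = f i (P v) + f i (v - P v) := by rw [← Ind.map_add (hfam.lft i), add_sub_cancel]
    rw [h5, map_add, hP2 _ (h3 _ (hP1 v)), hP3 _ (h4 _ (hP4 v)), add_zero]
  let L : Module.End F (Fin n → F) := { toFun := f j, map_add' := hadd, map_smul' := hlin }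
  let c : Module.End F (Fin n → F) := L * P + (1 - P)
  have hcv : ∀ v, c v = f j (P v) + (v - P v) := fun v => rfl
  have hc1 : ∀ v ∈ V₁, c v = f j v := by
    intro v hv
    rw [hcv, hP2 v hv, sub_self, add_zero]
  have hc2 : ∀ v ∈ V₂, c v = v := by
    intro v hv
    rw [hcv, hP3 v hv, Ind.map_zero hL, sub_zero, zero_add]
  have hciso : ∀ v w, hermForm n F q (c v) (c w) = hermForm n F q v w := by
    intro v w
    have h3 : v = P v + (v - P v) := by abel
    have h4 : w = P w + (w - P w) := by abel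
    conv_rhs => rw [h3, h4]
    rw [hcv, hcv, herm_add_left, herm_add_right hF, herm_add_right hF, herm_add_left, herm_add_right hF,
      herm_add_right hF, hher, hort _ (hu1 _ (hP1 v)) _ (hP4 w), hort _ (hP1 v) _ (hP4 w),
      herm_eq_zero_swap hF (hort _ (hu1 _ (hP1 w)) _ (hP4 v)), herm_eq_zero_swap hF (hort _ (hP1 w) _ (hP4 v))]
  have hcit1 : ∀ m, ∀ v ∈ V₁, (c ^ m) v = (f j)^[m] v ∧ (f j)^[m] v ∈ V₁ := by
    intro m
    induction m with
    | zero => exact fun v hv => ⟨rfl, hv⟩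
    | succ m ih =>
      intro v hv
      rw [pow_succ', Module.End.mul_apply, (ih v hv).1, Function.iterate_succ_apply', hc1 _ (ih v hv).2]
      exact ⟨rfl, hu1 _ (ih v hv).2⟩
  have hcit2 : ∀ m, ∀ v ∈ V₂, (c ^ m) v = v := by
    intro m
    induction m with
    | zero => exact fun v hv => rfl
    | succ m ih =>
      intro v hv
      rw [pow_succ', Module.End.mul_apply, ih v hv, hc2 v hv]
  have hcp : c ^ (p ^ l) = 1 := by
    refine LinearMap.ext fun v => ?_
    have h3 : v = P v + (v - P v) := by abel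
    conv_lhs => rw [h3]
    rw [map_add, (hcit1 _ _ (hP1 v)).1, hl, hcit2 _ _ (hP4 v), add_sub_cancel]
    rfl
  have hdet : LinearMap.det c = 1 := by
    have h3 := congrArg LinearMap.det hcp
    rw [map_pow, map_one] at h3
    have h9 : (LinearMap.det c - 1) ^ p ^ l = 0 := by rw [sub_pow_char_pow, h3, one_pow, sub_self]
    exact sub_eq_zero.1 (pow_eq_zero_iff (pow_ne_zero _ hp.ne_zero) |>.1 h9)
  obtain ⟨s, hs⟩ := H398.RC.exists_su hciso hdet
  have hsf : ∀ i, i ≠ i₀ → ∀ v, act s (f i v) = f i (act s v) := by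
    intro i hi v
    rw [hs, hs, hcv, hcv, Ind.map_add (hfam.lft i), hPf i hi, hfam.comm i j, Ind.map_sub (hfam.lft i)]
  have hs1 : Stab (act s) V₁ := by
    intro v hv
    rw [hs, hc1 v hv]
    exact hu1 v hv
  have hsn : ¬ ScalOn (act s) V₁ := by
    rintro ⟨a, ha⟩
    exact hnsc ⟨a, fun v hv => by rw [← ha v hv, hs, hc1 v hv]⟩
  have hsc : ∀ i, i ≠ i₀ → ScalOn (f i) V₁ → (r i).Coprime q := by
    intro i hi hi'
    by_contra hiq
    rw [hjj i hiq] at hi'
    exact hnsc hi'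
  by_cases hd3 : 3 ≤ Module.finrank F V₁
  · -- `g₀ = u ∘ g`
    obtain ⟨m, hm1, hm2, hm3⟩ := hg.ord
    have hco : m.Coprime (p ^ l) := by
      apply Nat.Coprime.pow_right
      rw [hk] at hm2
      exact Nat.Coprime.coprime_dvd_right (dvd_pow_self p hk0.ne') hm2
    have hcomm : Function.Commute g (f j) := fun v => ((hY.cg j hj0).comm v).symm
    have hit : ∀ t v, (fun v => g (f j v))^[t] v = g^[t] ((f j)^[t] v) := by
      intro t v
      exact congrFun (hcomm.comp_iterate t) v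
    obtain ⟨a, ha1, ha2⟩ := Nat.chineseRemainder hco 1 0
    obtain ⟨b, hb1, hb2⟩ := Nat.chineseRemainder hco 0 1
    have hga : (fun v => g (f j v))^[a] = g := by
      funext v
      rw [hit, iter_mod hm3 ha1, iter_mod hl ha2]
      rfl
    have hgb : (fun v => g (f j v))^[b] = f j := by
      funext v
      rw [hit, iter_mod hm3 hb1, iter_mod hl hb2]
      rfl
    refine dfin hG hS U x f r i₀ T g hY hIH h1 hc hT1 hT2 hst (fun v hv => by rw [hs, hc2 v hv]) hsf hs1 hsn
      (g₀ := fun v => g (f j v)) ?_ ?_ ?_ ?_ ⟨b, 1, fun v hv => ?_⟩ ?_ hsc (Or.inl hd3)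
    · intro v w
      change g (f j (v + w)) = g (f j v) + g (f j w)
      rw [hadd, hg.add]
    · intro c v
      change g (f j (c • v)) = c • g (f j v)
      rw [hlin, hg.lin]
    · intro v hv
      exact (hst g ⟨hg.add, hg.lin, fun v => rfl⟩).1 _ (hu1 v hv)
    · intro v _ w _
      change hermForm n F q (g (f j v)) (g (f j w)) = _
      rw [hg.herm, hher]
    · rw [hgb, one_smul, hs, hc1 v hv]
    · intro i hi
      by_cases hij : i = j
      · subst hij
        exact ⟨b, 1, fun v hv => by rw [hgb, one_smul]⟩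
      · have hiq : (r i).Coprime q := by
          by_contra hiq
          exact hij (hjj i hiq)
        obtain ⟨e, he⟩ := hY.pow i hi hiq
        refine ⟨a * e, 1, fun v hv => ?_⟩
        rw [Function.iterate_mul, hga, one_smul, he]
  · -- `g` is a scalar on `V₁`, `g₀ = u`
    have hsg' := hsg.resolve_right hd3
    have hq3 := q_ne_three hF hT hg hY.ne h1 hV0 hc hT2 hsg'
    obtain ⟨a, ha⟩ := hsg'
    have hgk : ∀ m, ∀ v ∈ V₁, g^[m] v = a ^ m • v := by
      intro m
      induction m with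
      | zero => exact fun v hv => by simp
      | succ m ih =>
        intro v hv
        rw [Function.iterate_succ_apply', ih v hv, hg.lin, ha v hv, smul_smul, pow_succ]
    refine dfin hG hS U x f r i₀ T g hY hIH h1 hc hT1 hT2 hst (fun v hv => by rw [hs, hc2 v hv]) hsf hs1 hsn
      (g₀ := f j) hadd hlin hu1 (fun v _ w _ => hher v w) ⟨1, 1, fun v hv => ?_⟩ ?_ hsc
      (Or.inr ⟨hq3, p, l, hp, 1, fun v _ => ?_⟩)
    · rw [one_smul, hs, hc1 v hv]
      rfl
    · intro i hi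
      by_cases hij : i = j
      · subst hij
        exact ⟨1, 1, fun v hv => by rw [one_smul]; rfl⟩
      · have hiq : (r i).Coprime q := by
          by_contra hiq
          exact hij (hjj i hiq)
        obtain ⟨e, he⟩ := hY.pow i hi hiq
        refine ⟨0, a ^ e, fun v hv => ?_⟩
        rw [he, hgk e v hv]
        rfl
    · rw [hl, one_smul]

/-- T8 : `g` is a scalar on `V₁`, no member of order `p` -/
theorem dT8 (hG : GDecStmt) (hS : SmallStmt)
    {G Ω : Type} [Group G] [Finite G] [Finite Ω] [Nonempty Ω] [MulAction G Ω] {N : Subgroup G} {F : Type} [Field F]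
    [Fintype F] {n q : ℕ} (U : UEnv G Ω N F n q) {ι : Type} [Finite ι] (x : ι → G)
    (f : ι → (Fin n → F) → (Fin n → F)) (r : ι → ℕ) (i₀ : ι) (T g : (Fin n → F) → (Fin n → F))
    (hY : Sym U x f r i₀ T g) (hIH : H106.RC.IH (Nat.card (PSU n F q)))
    {V₁ V₂ : Submodule F (Fin n → F)} (h1 : NDeg q V₁) (hc : IsCompl V₁ V₂)
    (hort : ∀ v ∈ V₁, ∀ w ∈ V₂, hermForm n F q v w = 0)
    (hT1 : ∀ v ∈ V₁, T v ∈ V₂) (hT2 : ∀ v ∈ V₂, T v ∈ V₁) (hst : ∀ u, Cg g u → Stab u V₁ ∧ Stab u V₂)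
    (hsg : ScalOn g V₁) (hall : ∀ j, j ≠ i₀ → (r j).Coprime q) : False := by
  classical
  have hF := U.hF
  have hT := hY.symT
  have hg := hY.symG
  have hfam := hY.gf.fam
  have hpf := hfam.pf
  obtain ⟨hd2, hdn⟩ := two_le_finrank U.hn hT hc hT1 hT2
  have hV0 : V₁ ≠ ⊥ := by
    rintro rfl
    rw [finrank_bot] at hd2
    omega
  have hq3 := q_ne_three hF hT hg hY.ne h1 hV0 hc hT2 hsg
  obtain ⟨a, ha⟩ := hsg
  have hgk : ∀ m, ∀ v ∈ V₁, g^[m] v = a ^ m • v := by
    intro m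
    induction m with
    | zero => exact fun v hv => by simp
    | succ m ih =>
      intro v hv
      rw [Function.iterate_succ_apply', ih v hv, hg.lin, ha v hv, smul_smul, pow_succ]
  obtain ⟨e, he, he0, hee⟩ := exists_sing hF h1 hd2
  obtain ⟨μ, hμ0, hμ⟩ := exists_trace_zero_ne hF
  have hfs : ∀ j, j ≠ i₀ → ∃ c : F, ∀ v ∈ V₁, f j v = c • v := by
    intro j hj
    obtain ⟨m, hm⟩ := hY.pow j hj (hall j hj)
    exact ⟨a ^ m, fun v hv => by rw [hm, hgk m v hv]⟩
  obtain ⟨p, k, hp, hchar, hk, hk0⟩ := exists_prime_pow U.hF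
  have hit : ∀ m v, (act (transv hF e hee μ hμ))^[m] v = v + ((m : F) * μ * hermForm n F q v e) • e := by
    intro m
    induction m with
    | zero => intro v; simp
    | succ m ih =>
      intro v
      rw [Function.iterate_succ_apply', ih, act_transv, herm_add_left, herm_smul_left, hee, mul_zero, add_zero,
        add_assoc, ← add_smul]
      push_cast
      ring_nf
  refine dfin hG hS U x f r i₀ T g hY hIH h1 hc hT1 hT2 hst (s := transv hF e hee μ hμ) ?_ ?_ ?_ ?_
    (g₀ := act (transv hF e hee μ hμ)) (fun v w => act_add _ _ _) (fun c v => act_smul _ _ _) ?_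
    (fun v _ w _ => herm_act _ _ _) ⟨1, 1, fun v hv => by rw [one_smul]; rfl⟩ ?_ (fun j hj _ => hall j hj)
    (Or.inr ⟨hq3, p, 1, hp, 1, fun v hv => ?_⟩)
  · intro v hv
    rw [act_transv, herm_eq_zero_swap hF (hort e he v hv), mul_zero, zero_smul, add_zero]
  · intro j hj v
    obtain ⟨c, hc'⟩ := hfs j hj
    have hL := hfam.lft j
    have hlin := hY.gf.lin j hj
    have hher := herm_lin hL hlin
    have hn := norm_scal hF h1 hV0 hher hc'
    have h3 : hermForm n F q (f j v) e = c * hermForm n F q v e := by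
      have h4 := hher v e
      rw [hc' e he, herm_smul_right] at h4
      rw [← h4, ← mul_assoc, hn, one_mul]
    rw [act_transv, act_transv, Ind.map_add hL, hlin, hc' e he, h3, smul_smul]
    congr 2
    ring
  · intro v hv
    rw [act_transv]
    exact V₁.add_mem hv (V₁.smul_mem _ he)
  · rintro ⟨c, hc'⟩
    have h3 := hc' e he
    rw [act_transv, hee, mul_zero, zero_smul, add_zero] at h3
    have h4 : c = 1 := by
      have h5 : (c - 1) • e = 0 := by rw [sub_smul, one_smul, ← h3, sub_self]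
      exact sub_eq_zero.1 ((smul_eq_zero.1 h5).resolve_right he0)
    apply he0
    apply h1 e he
    intro v hv
    have h5 := hc' v hv
    rw [act_transv, h4, one_smul, add_eq_left] at h5
    have h6 := (smul_eq_zero.1 h5).resolve_right he0
    exact herm_eq_zero_swap hF ((mul_eq_zero.1 h6).resolve_left hμ0)
  · intro v hv
    rw [act_transv]
    exact V₁.add_mem hv (V₁.smul_mem _ he)
  · intro j hj
    obtain ⟨c, hc'⟩ := hfs j hj
    exact ⟨0, c, fun v hv => hc' v hv⟩
  · rw [pow_one, hit, one_smul, CharP.cast_eq_zero, zero_mul, zero_mul, zero_smul, add_zero]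

/-- (1d) -/
theorem symDeltaB (hG : GDecStmt) (hS : SmallStmt) : SymDeltaB := by
  intro G Ω _ _ _ _ _ N F _ _ n q U ι _ x f r i₀ T g hY hIH V₁ V₂ h1 h2 hc hort hT1 hT2 hst halt
  by_cases hu : ∃ j, j ≠ i₀ ∧ ¬ (r j).Coprime q
  · obtain ⟨j, hj0, hjq⟩ := hu
    exact dT6 hG hS U x f r i₀ T g hY hIH h1 hc hort hT1 hT2 hst (halt.imp id And.left) hj0 hjq
  · push Not at hu
    rcases halt with hsg | ⟨hd3, s, g₀, hs2, hsc, hsn, hadd, hlin, hstab, hiso, k, l, hkl⟩
    · exact dT8 hG hS U x f r i₀ T g hY hIH h1 hc hort hT1 hT2 hst hsg hu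
    · have hg := hY.symG
      have hV : ∀ m, ∀ v ∈ V₁, g^[m] v ∈ V₁ := by
        intro m
        induction m with
        | zero => exact fun v hv => hv
        | succ m ih =>
          intro v hv
          rw [Function.iterate_succ_apply']
          exact (hst g ⟨hg.add, hg.lin, fun v => rfl⟩).1 _ (ih v hv)
      have hgk : ∀ m, ∀ v ∈ V₁, g^[m] v = g₀^[k * m] v := by
        intro m
        induction m with
        | zero => exact fun v hv => rfl
        | succ m ih =>
          intro v hv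
          rw [Function.iterate_succ_apply', (hkl _ (hV m v hv)).1, ih v hv, ← Function.iterate_add_apply]
          congr 1
          ring
      refine dfin hG hS U x f r i₀ T g hY hIH h1 hc hT1 hT2 hst hs2 ?_ ?_ hsn hadd hlin hstab hiso
        ⟨l, 1, fun v hv => by rw [one_smul, (hkl v hv).2]⟩ ?_ (fun j hj _ => hu j hj) (Or.inl hd3)
      · intro j hj v
        exact hsc _ (hY.cg j hj) v
      · exact (hst (act s) ⟨fun v w => act_add _ _ _, fun c v => act_smul _ _ _,
          fun v => hsc g ⟨hg.add, hg.lin, fun v => rfl⟩ v⟩).1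
      · intro j hj
        obtain ⟨m, hm⟩ := hY.pow j hj (hu j hj)
        exact ⟨k * m, 1, fun v hv => by rw [one_smul, hm, hgk m v hv]⟩

end main

end Cfsg.Agent.H438.RC
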