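import Cfsg.Agent.H438.RC.SymAsm
import Cfsg.Agent.H438.RC.SymDelta
import Cfsg.Agent.H188.RC.G43
import Cfsg.Agent.H188.RC.SymBC
import Cfsg.Agent.H398.RC.StrTStmtB
import Cfsg.Agent.H398.RC.SymThree
import Cfsg.Agent.H452.RC.DecMain
import Cfsg.Agent.H452.RC.DSwap
import Cfsg.Agent.H452.RC.GDecMain

/-!
# S3510, E13: `GraphSym` from `SmallStmt` (helper438)
-/

set_option autoImplicit false

namespace Cfsg.Agent.H438.RC

open Matrix Cfsg Cfsg.Agent.LieClassical.HermBasic Cfsg.Agent.LieClassical.HermSiegel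
  Cfsg.Agent.LieClassical.HermGen Cfsg.Agent.LieClassical.SUBasic Cfsg.Agent.ClassicalGeometry.PSUAutBasic
  Cfsg.Agent.ClassicalGeometry.PSUAutCount Cfsg.Agent.LieClassical.FieldTransfer Cfsg.Agent.ClassicalGeometry
  Cfsg.Agent.H380.RC

theorem graphSym_of' (hDec : DecStmt) (hS : SmallStmt) (hStr : StrTStmtB) (h3 : SymThree) (h4 : SymFour)
    (hb : SymBeta) (hc : SymGamma) (hd : SymDeltaB) : GraphSym := by
  intro G Ω _ _ _ _ _ N F _ _ n q U ι _ x f r hfam hcov ⟨hq, hIH, i₀, T, hG, hv⟩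
  have hT := symT_of hG hv
  obtain ⟨g, hg, hcg, hpow⟩ := exists_gen hG
  by_cases hne : ∃ v, g v ≠ v
  · have hY : Sym U x f r i₀ T g := ⟨hG, hq, hcov, hT, hg, hne, hcg, hpow⟩
    rcases hStr U.hF hq T g hT hg hne with h | h | h | h
    · obtain ⟨A, B, h5, h6, h7, h8, h9, h10, h11, h12, h13⟩ := h
      exact sym_alpha hDec hS h3 h4 U x f r i₀ T g hY hIH A B h5 h6 h7 h8 h9 h10 h11 h12 h13
    · obtain ⟨W, W', h5, h6, h7, h8, h9, h10⟩ := h
      exact hb U x f r i₀ T g hY hIH W W' h5 h6 h7 h8 h9 h10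
    · obtain ⟨W, W', h5, h6, h7, h8, h9, h10⟩ := h
      exact hc U x f r i₀ T g hY hIH W W' h5 h6 h7 h8 h9 h10
    · obtain ⟨V₁, V₂, h5, h6, h7, h8, h9, h10, h11, h12⟩ := h
      exact hd U x f r i₀ T g hY hIH V₁ V₂ h5 h6 h7 h8 h9 h10 h11 h12
  · push Not at hne
    refine symZero U x f r i₀ T hG hq hcov hv fun j hj hjq => ?_
    obtain ⟨k, hk⟩ := hpow j hj hjq
    apply hfam.pf.ne j
    rw [(hfam.lft j).eq_one_iff]
    refine ⟨1, fun v => ?_⟩
    rw [hk, one_smul]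
    exact Function.iterate_fixed (hne v) k

/-- **E13** -/
theorem graphSym (hS : SmallStmt) : GraphSym :=
  graphSym_of' H452.RC.dec_main hS H398.RC.strT_stmt_b (H398.RC.sym_three H452.RC.gdec_main hS)
    (H398.RC.sym_four H452.RC.dec_main H452.RC.gdec_main hS) (H188.RC.SymBC.symBeta H452.RC.d_main hS)
    (H188.RC.SymBC.symGamma H452.RC.dswap_main hS H188.RC.graph43) (symDeltaB H452.RC.gdec_main hS)

end Cfsg.Agent.H438.RC
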