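import Cfsg.Agent.H438.RC.SymStmt
import Cfsg.Agent.H380.RC.Point

/-!
# S3510, E13: basic facts (helper438)

* `herm_lin` : linear lifts are isometries;
* `symT_of`, `lft_T` : `T` is a lift of `x i₀`, symmetric;
* `comm_el`, `conj_T` : commutators with matrices;
* `SymT.span` : `Fix T` spans every `T`-stable subspace.
-/

set_option autoImplicit false

namespace Cfsg.Agent.H438.RC

open Matrix Cfsg Cfsg.Agent.LieClassical.HermBasic Cfsg.Agent.LieClassical.HermSiegel
  Cfsg.Agent.LieClassical.HermGen Cfsg.Agent.LieClassical.SUBasic Cfsg.Agent.ClassicalGeometry.PSUAutBasic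
  Cfsg.Agent.ClassicalGeometry.PSUAutCount Cfsg.Agent.LieClassical.FieldTransfer Cfsg.Agent.ClassicalGeometry
  Cfsg.Agent.H380.RC

section geo

variable {F : Type*} [Field F] [Fintype F] {n q : ℕ} {T : (Fin n → F) → (Fin n → F)}

theorem SymT.zero (h : SymT q T) : T 0 = 0 := by
  have h1 := h.add 0 0
  rw [add_zero] at h1
  simpa using h1

theorem SymT.neg (h : SymT q T) (v : Fin n → F) : T (-v) = -T v := by
  rw [eq_neg_iff_add_eq_zero, ← h.add, neg_add_cancel, h.zero]

theorem SymT.sub (h : SymT q T) (v w : Fin n → F) : T (v - w) = T v - T w := by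
  rw [sub_eq_add_neg, h.add, h.neg, ← sub_eq_add_neg]

theorem SymT.inj (h : SymT q T) {v w : Fin n → F} (hvw : T v = T w) : v = w := by
  rw [← h.TT v, hvw, h.TT]

theorem SymT.herm' (hF : Fintype.card F = q ^ 2) (h : SymT q T) (u v : Fin n → F) :
    hermForm n F q (T u) v = hermForm n F q u (T v) ^ q := by
  rw [← h.herm, h.TT]

/-- an additive map commuting with `T`, zero on `Fix T ∩ A`, is zero on `A` -/
theorem SymT.span (hF : Fintype.card F = q ^ 2) (h : SymT q T) {A : Submodule F (Fin n → F)} (hA : Stab T A)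
    {δ : (Fin n → F) → (Fin n → F)} (hadd : ∀ v w, δ (v + w) = δ v + δ w) (hlin : Lin δ)
    (h0 : ∀ v ∈ A, T v = v → δ v = 0) : ∀ v ∈ A, δ v = 0 := by
  intro v hv
  obtain ⟨c, hc⟩ := exists_not_fixed hF
  have key : ∀ c : F, c • δ v + c ^ q • δ (T v) = 0 := by
    intro c
    have h1 : T (c • v + c ^ q • T v) = c • v + c ^ q • T v := by
      rw [h.add, h.smul, h.smul, h.TT, pow_q_pow_q hF, add_comm]
    have h2 := h0 _ (A.add_mem (A.smul_mem c hv) (A.smul_mem (c ^ q) (hA v hv))) h1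
    rwa [hadd, hlin, hlin] at h2
  have h1 := key 1
  rw [one_pow, one_smul, one_smul] at h1
  have h2 := key c
  have h3 : δ (T v) = -δ v := (neg_eq_of_add_eq_zero_right h1).symm
  rw [h3, smul_neg, ← sub_eq_add_neg, ← sub_smul] at h2
  rcases smul_eq_zero.1 h2 with h4 | h4
  · exact absurd (sub_eq_zero.1 h4).symm hc
  · exact h4

end geo

section env

variable {G Ω : Type*} [Group G] [MulAction G Ω] {N : Subgroup G} {F : Type*} [Field F] [Fintype F] {n q : ℕ}
  {U : UEnv G Ω N F n q}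

/-- linear lifts are isometries -/
theorem herm_lin {y : G} {f : (Fin n → F) → (Fin n → F)} (h : U.Lft y f) (hl : Lin f) (u v : Fin n → F) :
    hermForm n F q (f u) (f v) = hermForm n F q u v := by
  obtain ⟨ρ, hs, hh⟩ := Ind.exists_rho h
  have hn := U.hn
  obtain ⟨a, ha⟩ : ∃ a : Fin n → F, a ≠ 0 := ⟨Pi.single ⟨0, by omega⟩ 1, by simp⟩
  have hfa : f a ≠ 0 := fun h0 => ha (Ind.injective h (by rw [h0, Ind.map_zero h]))
  have hρ : ∀ b : F, ρ b = b := by
    intro b
    have h1 := hl b a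
    rw [hs] at h1
    have h2 : (ρ b - b) • f a = 0 := by rw [sub_smul, h1, sub_self]
    exact sub_eq_zero.1 ((smul_eq_zero.1 h2).resolve_right hfa)
  rw [hh, hρ]

theorem comm_el {y : G} {f : (Fin n → F) → (Fin n → F)} (h : U.Lft y f) {s : SU n F q}
    (hs : ∀ v, f (act s v) = act s (f v)) : U.el s * y = y * U.el s := by
  have h1 := h.conj_el hs
  rw [mul_inv_eq_iff_eq_mul] at h1
  exact h1.symm

theorem comm_lft {y z : G} {f g : (Fin n → F) → (Fin n → F)} (h : U.Lft y f) (h' : U.Lft z g)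
    (hc : ∀ v, f (g v) = g (f v)) : y * z = z * y := by
  refine (h.mul h').inj ?_
  have h1 := h'.mul h
  have h2 : (fun v => f (g v)) = fun v => g (f v) := funext hc
  rw [h2]
  exact h1

variable {ι : Type*} {x : ι → G} {f : ι → (Fin n → F) → (Fin n → F)} {r : ι → ℕ} {i₀ : ι}
  {T : (Fin n → F) → (Fin n → F)}

/-- `ε = 1` -/
theorem symT_of (h : GForm U x f r i₀ T) (hv : ∃ v, T v = v ∧ hermForm n F q v v ≠ 0) : SymT q T := by
  obtain ⟨v, h1, h2⟩ := hv
  obtain ⟨ε, -, h4⟩ := h.herm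
  have h5 := h4 v v
  rw [h1, herm_self_pow U.hF] at h5
  have h6 : ε = 1 := by
    have h7 : (ε - 1) * hermForm n F q v v = 0 := by rw [sub_mul, ← h5]; ring
    exact sub_eq_zero.1 ((mul_eq_zero.1 h7).resolve_right h2)
  refine ⟨h.TT, h.add, h.smul, fun u v => ?_⟩
  rw [h4, h6, one_mul]

/-- `T` is a lift of `x i₀` -/
theorem lft_T (h : GForm U x f r i₀ T) (hT : SymT q T) : U.Lft (x i₀) T := by
  obtain ⟨b, hb0, hb⟩ := h.eq
  have hL := h.fam.lft i₀
  obtain ⟨ρ, hs, hh⟩ := Ind.exists_rho hL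
  have hn := U.hn
  obtain ⟨a, w, haw⟩ : ∃ v w : Fin n → F, hermForm n F q v w = 1 := by
    refine ⟨Pi.single ⟨0, by omega⟩ 1, Pi.single ⟨0, by omega⟩ 1, ?_⟩
    rw [herm_single_left, Pi.single_eq_same, one_pow, one_mul]
  have h1 := hT.herm a w
  rw [haw, hb, hb, herm_smul_left, herm_smul_right, hh, haw, map_one, one_pow, mul_one] at h1
  have h2 := hL.scalar h1
  have h3 : T = fun v => b • f i₀ v := funext hb
  rw [h3]
  exact h2

/-- the commutator of `x i₀` with a matrix -/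
theorem comm_T (h : GForm U x f r i₀ T) (hT : SymT q T) {s s' : SU n F q} (hs : ∀ v, T (act s (T v)) = act s' v) :
    U.el s * x i₀ * (U.el s)⁻¹ * (x i₀)⁻¹ = U.el (s * s'⁻¹) := by
  have h1 : ∀ v, T (act s v) = act s' (T v) := by
    intro v
    rw [← hs, hT.TT]
  have h2 := (lft_T h hT).conj_el h1
  rw [map_mul, map_inv, ← h2]
  group

end env

end Cfsg.Agent.H438.RC
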