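import Cfsg.Agent.H438.RC.SymBasic

/-!
# S3510, E13: one generator of the `p'`-part of the linear members (helper438)
-/

set_option autoImplicit false

namespace Cfsg.Agent.H438.RC

open Matrix Cfsg Cfsg.Agent.LieClassical.HermBasic Cfsg.Agent.LieClassical.HermSiegel
  Cfsg.Agent.LieClassical.HermGen Cfsg.Agent.LieClassical.SUBasic Cfsg.Agent.ClassicalGeometry.PSUAutBasic
  Cfsg.Agent.ClassicalGeometry.PSUAutCount Cfsg.Agent.LieClassical.FieldTransfer Cfsg.Agent.ClassicalGeometry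
  Cfsg.Agent.H380.RC

theorem iter_mod {V : Type*} {g : V → V} {m a b : ℕ} (h : ∀ v, g^[m] v = v) (hab : a ≡ b [MOD m]) (v : V) :
    g^[a] v = g^[b] v := by
  have h1 : Function.IsPeriodicPt g m v := h v
  rw [← h1.iterate_mod_apply a, ← h1.iterate_mod_apply b]
  rw [hab]

section env

variable {G Ω : Type*} [Group G] [MulAction G Ω] {N : Subgroup G} {F : Type*} [Field F] [Fintype F] {n q : ℕ}
  {U : UEnv G Ω N F n q} {ι : Type*} {x : ι → G} {f : ι → (Fin n → F) → (Fin n → F)} {r : ι → ℕ} {i₀ : ι}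
  {T : (Fin n → F) → (Fin n → F)}

theorem exists_gen_aux (h : GForm U x f r i₀ T) (s : Finset ι)
    (hs : ∀ j ∈ s, j ≠ i₀ ∧ (r j).Coprime q) :
    ∃ (g : (Fin n → F) → (Fin n → F)) (m : ℕ), (∀ v w, g (v + w) = g v + g w) ∧ Lin g ∧
      (∀ u v, hermForm n F q (g u) (g v) = hermForm n F q u v) ∧ (∀ v, g (T v) = T (g v)) ∧ (∀ v, g^[m] v = v) ∧
      (∀ l : ℕ, l.Prime → l ∣ m → ∃ j ∈ s, r j = l) ∧ m ≠ 0 ∧ (∀ j, j ≠ i₀ → ∀ v, f j (g v) = g (f j v)) ∧
      ∀ j ∈ s, ∃ k, ∀ v, f j v = g^[k] v := by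
  classical
  have hpf := h.fam.pf
  induction s using Finset.induction_on with
  | empty =>
    refine ⟨fun v => v, 1, fun v w => rfl, fun c v => rfl, fun u v => rfl, fun v => rfl, fun v => rfl, ?_, one_ne_zero,
      fun j _ v => rfl, ?_⟩
    · intro l hl h1
      exact absurd (Nat.dvd_one.1 h1) hl.one_lt.ne'
    · intro j hj
      simp at hj
  | insert j s hj ih =>
    obtain ⟨g, m, h1, h2, h3, h4, h5, h6, h0, h7, h8⟩ := ih fun i hi => hs i (Finset.mem_insert_of_mem hi)
    obtain ⟨hj0, hjq⟩ := hs j (Finset.mem_insert_self j s)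
    obtain ⟨k, hk⟩ := h.fam.ord j
    have hL := h.fam.lft j
    have hlin := h.lin j hj0
    have hco : m.Coprime (r j ^ k) := by
      apply Nat.Coprime.pow_right
      rw [Nat.coprime_comm, (hpf.prime j).coprime_iff_not_dvd]
      intro h9
      obtain ⟨i, hi, hij⟩ := h6 _ (hpf.prime j) h9
      rw [hpf.inj hij] at hi
      exact hj hi
    have hcomm : Function.Commute g (f j) := fun v => (h7 j hj0 v).symm
    have hit : ∀ t v, (fun v => g (f j v))^[t] v = g^[t] ((f j)^[t] v) := by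
      intro t v
      exact congrFun (hcomm.comp_iterate t) v
    obtain ⟨a, ha1, ha2⟩ := Nat.chineseRemainder hco 1 0
    obtain ⟨b, hb1, hb2⟩ := Nat.chineseRemainder hco 0 1
    have hga : ∀ v, (fun v => g (f j v))^[a] v = g v := by
      intro v
      rw [hit, iter_mod h5 ha1, iter_mod hk ha2]
      rfl
    have hgb : ∀ v, (fun v => g (f j v))^[b] v = f j v := by
      intro v
      rw [hit, iter_mod h5 hb1, iter_mod hk hb2]
      rfl
    refine ⟨fun v => g (f j v), m * r j ^ k, ?_, ?_, ?_, ?_, ?_, ?_, ?_, ?_, ?_⟩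
    · intro v w
      change g (f j (v + w)) = g (f j v) + g (f j w)
      rw [Ind.map_add hL, h1]
    · intro c v
      change g (f j (c • v)) = c • g (f j v)
      rw [hlin, h2]
    · intro v w
      change hermForm n F q (g (f j v)) (g (f j w)) = _
      rw [h3, herm_lin hL hlin]
    · intro v
      change g (f j (T v)) = T (g (f j v))
      rw [h.comm j hj0, h4]
    · intro v
      rw [hit, iter_mod (b := 0) h5 (by simp [Nat.ModEq]), iter_mod (b := 0) hk (by simp [Nat.ModEq])]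
      rfl
    · intro l hl h9
      rcases (hl.dvd_mul).1 h9 with h10 | h10
      · obtain ⟨i, hi, hil⟩ := h6 l hl h10
        exact ⟨i, Finset.mem_insert_of_mem hi, hil⟩
      · refine ⟨j, Finset.mem_insert_self j s, ?_⟩
        exact ((Nat.prime_dvd_prime_iff_eq hl (hpf.prime j)).1 (hl.dvd_of_dvd_pow h10)).symm
    · exact mul_ne_zero h0 (pow_ne_zero _ (hpf.prime j).ne_zero)
    · intro i hi v
      change f i (g (f j v)) = g (f j (f i v))
      rw [h7 i hi, h.fam.comm i j]
    · intro i hi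
      rcases Finset.mem_insert.1 hi with rfl | hi'
      · exact ⟨b, fun v => (hgb v).symm⟩
      · obtain ⟨c, hc⟩ := h8 i hi'
        refine ⟨a * c, fun v => ?_⟩
        rw [hc, Function.iterate_mul]
        have h9 : (fun v => g (f j v))^[a] = g := funext hga
        rw [h9]

/-- one generator -/
theorem exists_gen [Finite ι] (h : GForm U x f r i₀ T) :
    ∃ g : (Fin n → F) → (Fin n → F), SymG q T g ∧ (∀ j, j ≠ i₀ → Cg g (f j)) ∧
      (∀ j, j ≠ i₀ → (r j).Coprime q → ∃ k, ∀ v, f j v = g^[k] v) := by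
  classical
  have := Fintype.ofFinite ι
  have hpf := h.fam.pf
  obtain ⟨g, m, h1, h2, h3, h4, h5, h6, h0, h7, h8⟩ := exists_gen_aux h
    (Finset.univ.filter fun j => j ≠ i₀ ∧ (r j).Coprime q) (by intro j hj; simpa using hj)
  have hcop : ∀ l : ℕ, l.Prime → l ∣ m → l.Coprime (2 * q) := by
    intro l hl h9
    obtain ⟨j, hj, rfl⟩ := h6 l hl h9
    rw [Finset.mem_filter] at hj
    obtain ⟨-, hj1, hj2⟩ := hj
    apply Nat.Coprime.mul_right _ hj2
    rw [Nat.coprime_primes (hpf.prime j) Nat.prime_two]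
    intro h10
    exact hj1 (hpf.inj (h10.trans h.r2.symm))
  have hm : m.Coprime (2 * q) := by
    by_contra hcon
    obtain ⟨l, hl, h9, h10⟩ := Nat.Prime.not_coprime_iff_dvd.1 hcon
    exact hl.one_lt.ne' (Nat.eq_one_of_dvd_coprimes (hcop l hl h9) dvd_rfl h10)
  refine ⟨g, ⟨h1, h2, h3, h4, m, ?_, hm.coprime_mul_left_right, h5⟩, fun j hj => ⟨Ind.map_add (h.fam.lft j),
    h.lin j hj, h7 j hj⟩, fun j hj hjq =>
    h8 j (Finset.mem_filter.2 ⟨Finset.mem_univ _, hj, hjq⟩)⟩
  rw [← Nat.not_even_iff_odd, even_iff_two_dvd]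
  intro h9
  have h10 := hm.coprime_mul_right_right
  exact absurd (Nat.eq_one_of_dvd_coprimes h10 h9 dvd_rfl) (by norm_num)

end env

end Cfsg.Agent.H438.RC
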