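import Cfsg.Agent.H438.RC.SymBasic

/-!
# S3510, E13, part (0) (helper438)

* `zero_pair` : `x₁` (lift `T`) and `y` (lift `u`, linear, of order a power of `p`, commuting with `T`) do not cover;
* `symZero : SymZero`.
-/

set_option autoImplicit false

namespace Cfsg.Agent.H438.RC

open Matrix Cfsg Cfsg.Agent.LieClassical.HermBasic Cfsg.Agent.LieClassical.HermSiegel
  Cfsg.Agent.LieClassical.HermGen Cfsg.Agent.LieClassical.SUBasic Cfsg.Agent.ClassicalGeometry.PSUAutBasic
  Cfsg.Agent.ClassicalGeometry.PSUAutCount Cfsg.Agent.LieClassical.FieldTransfer Cfsg.Agent.ClassicalGeometry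
  Cfsg.Agent.H380.RC

theorem exists_last {V : Type*} [Zero V] {δ : V → V} {N : ℕ} {w : V} (h : δ^[N] w = 0) (h0 : δ 0 = 0)
    (hw : δ w ≠ 0) : ∃ m, δ (δ^[m] w) ≠ 0 ∧ δ (δ (δ^[m] w)) = 0 := by
  classical
  have hex : ∃ m, δ (δ^[m] w) = 0 := ⟨N, by rw [h, h0]⟩
  obtain ⟨m, hm⟩ : ∃ m, Nat.find hex = m + 1 := by
    refine ⟨Nat.find hex - 1, ?_⟩
    have h1 : Nat.find hex ≠ 0 := by
      intro h2
      have h3 := Nat.find_spec hex
      rw [h2] at h3
      exact hw h3
    omega
  refine ⟨m, Nat.find_min hex (by omega), ?_⟩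
  have h3 := Nat.find_spec hex
  rw [hm, Function.iterate_succ_apply'] at h3
  exact h3

section geo

variable {F : Type*} [Field F] {n : ℕ}

/-- a linear map of order a power of `p` is unipotent -/
theorem unip {p k : ℕ} [Fact p.Prime] [CharP F p] {u : (Fin n → F) → (Fin n → F)}
    (hadd : ∀ v w, u (v + w) = u v + u w) (hlin : Lin u) (hk : ∀ v, u^[p ^ k] v = v) (v : Fin n → F) :
    (fun v => u v - v)^[p ^ k] v = 0 := by
  let L : Module.End F (Fin n → F) := { toFun := u, map_add' := hadd, map_smul' := hlin }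
  have h1 : ((Polynomial.X - 1 : Polynomial F) ^ (p ^ k)) = Polynomial.X ^ (p ^ k) - 1 := by
    rw [sub_pow_char_pow, one_pow]
  have h2 := congrArg (Polynomial.aeval L) h1
  rw [map_pow, map_sub, map_sub, map_pow, Polynomial.aeval_X, map_one] at h2
  have h3 : L ^ (p ^ k) = 1 := by
    refine LinearMap.ext fun w => ?_
    rw [Module.End.pow_apply]
    exact hk w
  rw [h3, sub_self] at h2
  have h4 := LinearMap.congr_fun h2 v
  rw [Module.End.pow_apply] at h4
  exact h4

end geo

section env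

variable {G Ω : Type*} [Group G] [MulAction G Ω] {N : Subgroup G} {F : Type*} [Field F] [Fintype F] {n q : ℕ}
  {U : UEnv G Ω N F n q}

/-- (MV) for two elements -/
theorem mv_pair {x₁ y c : G} (hcov : ∀ ω : Ω, x₁ • ω = ω ∨ y • ω = ω) (hc : c * y = y * c) (ω : Ω) :
    (c * x₁ * c⁻¹ * x₁⁻¹) • ω = ω ∨ y • ω = ω := by
  by_cases hy : y • ω = ω
  · exact Or.inr hy
  left
  have h1 : x₁ • ω = ω := (hcov ω).resolve_right hy
  have h2 : x₁ • c⁻¹ • ω = c⁻¹ • ω := by
    refine (hcov _).resolve_right fun h3 => hy ?_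
    have h4 : c • y • c⁻¹ • ω = y • ω := by
      rw [← mul_smul, hc, mul_smul, smul_inv_smul]
    rw [← h4, h3, smul_inv_smul]
  have h3 : x₁⁻¹ • ω = ω := by rw [inv_smul_eq_iff, h1]
  rw [mul_smul, h3, mul_smul, mul_smul, h2, smul_inv_smul]

theorem neg_trace (hF : Fintype.card F = q ^ 2) {μ : F} (hμ : μ + μ ^ q = 0) : -μ + (-μ) ^ q = 0 := by
  rw [neg_pow_q hF, ← neg_add, hμ, neg_zero]

theorem transv_inv' (hF : Fintype.card F = q ^ 2) {e : Fin n → F} (he : hermForm n F q e e = 0) {μ : F}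
    (hμ : μ + μ ^ q = 0) : (transv hF e he μ hμ)⁻¹ = transv hF e he (-μ) (neg_trace hF hμ) := by
  apply inv_eq_of_mul_eq_one_right
  apply ext_act
  intro v
  rw [act_mul, act_transv, act_transv, act_one, herm_add_left, herm_smul_left, he, mul_zero, add_zero, add_assoc,
    ← add_smul]
  ring_nf
  simp

/-- the conjugate by `T` of a transvection with centre in `Fix T` -/
theorem T_transv {T : (Fin n → F) → (Fin n → F)} (hF : Fintype.card F = q ^ 2) (hT : SymT q T) {e : Fin n → F}
    (he : hermForm n F q e e = 0) (hTe : T e = e) {μ : F} (hμ : μ + μ ^ q = 0) (v : Fin n → F) :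
    T (act (transv hF e he μ hμ) (T v)) = act (transv hF e he μ hμ)⁻¹ v := by
  rw [transv_inv', act_transv, act_transv, hT.add, hT.TT, hT.smul, hTe]
  congr 2
  have h1 : hermForm n F q (T v) e = hermForm n F q v e ^ q := by
    rw [← hT.herm, hTe]
  rw [h1, mul_pow, pow_q_pow_q hF, (neg_eq_of_add_eq_zero_right hμ)]

theorem zero_pair [Nonempty Ω] (U : UEnv G Ω N F n q) (hq : Odd q) {x₁ y : G} {T u : (Fin n → F) → (Fin n → F)}
    (hT : SymT q T) (h1 : U.Lft x₁ T) (h2 : U.Lft y u) (hu : Lin u) (hc : ∀ v, u (T v) = T (u v)) (hy : y ≠ 1)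
    {p k : ℕ} (hp : p.Prime) (hpq : p ∣ q) (hk : ∀ v, u^[p ^ k] v = v)
    (hcov : ∀ ω : Ω, x₁ • ω = ω ∨ y • ω = ω) : False := by
  have hF := U.hF
  have hpF := Fact.mk hp
  have hchar : CharP F p := by
    obtain ⟨p', k', hp', hchar, hk', -⟩ := exists_prime_pow U.hF
    have h3 : p = p' := by
      rw [hk'] at hpq
      exact (Nat.prime_dvd_prime_iff_eq hp hp').1 (hp.dvd_of_dvd_pow hpq)
    rw [h3]
    exact hchar
  have hp2 : (2 : F) ≠ 0 := by
    intro h3
    have h4 : p ∣ 2 := (CharP.cast_eq_zero_iff F p 2).1 (by exact_mod_cast h3)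
    have h5 : p = 2 := (Nat.prime_dvd_prime_iff_eq hp Nat.prime_two).1 h4
    rw [h5] at hpq
    obtain ⟨a, ha⟩ := hq
    omega
  have hadd := Ind.map_add h2
  have hun := unip hadd hu hk
  have hherm := herm_lin h2 hu
  set δ : (Fin n → F) → (Fin n → F) := fun v => u v - v with hδdef
  have hδ : ∀ v, δ v = u v - v := fun v => rfl
  have hδ0 : δ 0 = 0 := by rw [hδ, Ind.map_zero h2, sub_self]
  have hδadd : ∀ v w, δ (v + w) = δ v + δ w := by
    intro v w
    rw [hδ, hδ, hδ, hadd]
    abel
  have hδlin : Lin δ := by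
    intro c v
    rw [hδ, hδ, hu, smul_sub]
  have hδT : ∀ v, δ (T v) = T (δ v) := by
    intro v
    rw [hδ, hδ, hc, hT.sub]
  -- a vector of `Fix T` which is moved
  obtain ⟨w, hTw, hw⟩ : ∃ w, T w = w ∧ δ w ≠ 0 := by
    by_contra hcon
    push Not at hcon
    apply hy
    rw [h2.eq_one_iff]
    refine ⟨1, fun v => ?_⟩
    have h3 := hT.span hF (A := ⊤) (fun _ _ => Submodule.mem_top) hδadd hδlin (fun v _ hv => hcon v hv) v
      Submodule.mem_top
    rw [hδ] at h3
    rw [one_smul]
    exact sub_eq_zero.1 h3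
  obtain ⟨m, hm1, hm2⟩ := exists_last (hun w) hδ0 hw
  have hTz : T (δ^[m] w) = δ^[m] w := by
    have h3 : ∀ m, T (δ^[m] w) = δ^[m] w := by
      intro m
      induction m with
      | zero => exact hTw
      | succ m ih => rw [Function.iterate_succ_apply', ← hδT, ih]
    exact h3 m
  set z := δ^[m] w with hz
  obtain ⟨e, he⟩ : ∃ e, e = δ z := ⟨_, rfl⟩
  have he0 : e ≠ 0 := by rw [he]; exact hm1
  have hue : u e = e := by
    rw [← he] at hm2
    rw [hδ] at hm2
    exact sub_eq_zero.1 hm2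
  have hTe : T e = e := by rw [he, ← hδT, hTz]
  have hee : hermForm n F q e e = 0 := by
    nth_rewrite 1 [he]
    rw [hδ, herm_sub_left]
    nth_rewrite 1 [← hue]
    rw [hherm, sub_self]
  -- the transvection
  obtain ⟨μ, hμ0, hμ⟩ := exists_trace_zero_ne hF
  have hμ' : (μ + μ) + (μ + μ) ^ q = 0 := by
    rw [add_pow_q hF, add_add_add_comm, hμ, add_zero]
  have hμ'0 : μ + μ ≠ 0 := by
    rw [← two_mul]
    exact mul_ne_zero hp2 hμ0
  have hcy : U.el (transv hF e hee μ hμ) * y = y * U.el (transv hF e hee μ hμ) := by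
    refine comm_el h2 fun v => ?_
    rw [act_transv, act_transv, hadd, hu, hue]
    congr 3
    nth_rewrite 2 [← hue]
    rw [hherm]
  have hcx : U.el (transv hF e hee μ hμ) * x₁ * (U.el (transv hF e hee μ hμ))⁻¹ * x₁⁻¹ =
      U.el (transv hF e hee (μ + μ) hμ') := by
    have h3 : ∀ v, T (act (transv hF e hee μ hμ) v) = act (transv hF e hee μ hμ)⁻¹ (T v) := by
      intro v
      rw [← T_transv hF hT hee hTe hμ, hT.TT]
    have h4 := h1.conj_el h3
    have h5 : U.el (transv hF e hee μ hμ) * x₁ * (U.el (transv hF e hee μ hμ))⁻¹ * x₁⁻¹ =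
        U.el (transv hF e hee μ hμ) * (x₁ * U.el (transv hF e hee μ hμ) * x₁⁻¹)⁻¹ := by group
    rw [h5, h4, map_inv, inv_inv, ← map_mul]
    congr 1
    rw [transv_mul]
  have hcov' : ∀ ω : Ω, U.el (transv hF e hee (μ + μ) hμ') • ω = ω ∨ y • ω = ω := by
    intro ω
    have h3 := mv_pair hcov hcy ω
    rwa [hcx] at h3
  -- the three cases
  by_cases hi : ∃ w : Fin n → F, hermForm n F q w e = 0 ∧ ∀ a : F, w - (1 : F) ^ q • u w ≠ a • e
  · obtain ⟨w, hw1, hw2⟩ := hi
    exact U.root_one_of_move h2 he0 hee (c := 1) (by rw [hue, one_smul]) hw1 hw2 hμ' hμ'0 hcov'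
  push Not at hi
  have hi' : ∀ w : Fin n → F, hermForm n F q w e = 0 → ∃ a : F, u w = w + a • e := by
    intro w hw
    obtain ⟨a, ha⟩ := hi w hw
    refine ⟨-a, ?_⟩
    rw [neg_smul, ← ha, one_pow, one_smul]
    abel
  by_cases hii : ∃ (w : Fin n → F) (a : F), hermForm n F q w e = 0 ∧ u w = w + a • e ∧ a ≠ 0
  · obtain ⟨w, a, hw1, hw2, ha⟩ := hii
    obtain ⟨b, hb⟩ := exists_sub_pow hF hμ'
    -- scale
    obtain ⟨d, hd⟩ : ∃ d : F, d = -b * a⁻¹ := ⟨_, rfl⟩
    have hdw : hermForm n F q (d • w) e = 0 := by rw [herm_smul_left, hw1, mul_zero]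
    have hud : u (d • w) = d • w + (-b) • e := by
      rw [hu, hw2, smul_add, smul_smul, hd, mul_assoc, inv_mul_cancel₀ ha, mul_one]
    obtain ⟨ν, hν⟩ := exists_mu hF hee hdw
    have h3 : y * U.el (siegel hF e (d • w) ν hν) * y⁻¹ =
        U.el ((transv hF e hee (μ + μ) hμ')⁻¹ * siegel hF e (d • w) ν hν) := by
      apply h2.conj_el
      intro v
      have hL : u (v + hermForm n F q v e • d • w + (ν * hermForm n F q v e - hermForm n F q v (d • w)) • e) =
          u v + hermForm n F q v e • (d • w + (-b) • e) +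
            (ν * hermForm n F q v e - hermForm n F q v (d • w)) • e := by
        rw [hadd, hadd, hu _ (d • w), hud, hu _ e, hue]
      rw [act_mul, transv_inv', act_transv, act_siegel, act_siegel, hL]
      have h5 : hermForm n F q (u v) e = hermForm n F q v e := by
        nth_rewrite 1 [← hue]
        rw [hherm]
      have h6 : hermForm n F q (u v) (d • w) = hermForm n F q v (d • w) + b ^ q * hermForm n F q v e := by
        have h7 : d • w = u (d • w) + b • e := by rw [hud, neg_smul]; abel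
        conv_lhs => rw [h7, herm_add_right hF, hherm, herm_smul_right b (u v) e, h5]
      rw [h5, h6]
      have h8 : hermForm n F q (u v + (hermForm n F q v e • d • w +
          (ν * hermForm n F q v e - (hermForm n F q v (d • w) + b ^ q * hermForm n F q v e)) • e)) e =
          hermForm n F q v e := by
        rw [herm_add_left, herm_add_left, herm_smul_left, herm_smul_left (c := _ - _), h5, hdw, hee, mul_zero,
          mul_zero, add_zero, add_zero]
      have h9 : u v + hermForm n F q v e • d • w +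
          (ν * hermForm n F q v e - (hermForm n F q v (d • w) + b ^ q * hermForm n F q v e)) • e =
          u v + (hermForm n F q v e • d • w +
          (ν * hermForm n F q v e - (hermForm n F q v (d • w) + b ^ q * hermForm n F q v e)) • e) := add_assoc _ _ _
      rw [h9, h8, ← hb]
      module
    have h4 : U.el (transv hF e hee (μ + μ) hμ') ∈ cmm (U.Q e hee) y := by
      have h5 := mem_cmm (U := U.Q e hee) (x := y) (UEnv.siegel_mem_Q (U := U) (hu := hee) hν)
      have h6 : U.el (siegel hF e (d • w) ν hν) * y * (U.el (siegel hF e (d • w) ν hν))⁻¹ * y⁻¹ =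
          U.el (transv hF e hee (μ + μ) hμ') := by
        have h7 : U.el (siegel hF e (d • w) ν hν) * y * (U.el (siegel hF e (d • w) ν hν))⁻¹ * y⁻¹ =
          U.el (siegel hF e (d • w) ν hν) * (y * U.el (siegel hF e (d • w) ν hν) * y⁻¹)⁻¹ := by group
        rw [h7, h3, map_mul, map_inv]
        have h8 := congrArg U.el (transv_comm hF hν hμ')
        rw [map_mul, map_mul] at h8
        rw [_root_.mul_inv_rev, inv_inv, ← mul_assoc, mul_inv_cancel, one_mul]
      rwa [h6] at h5
    exact not_cov_one U.env (U := U.Q e hee) hcov' (fun y hy => UEnv.Q_comm hμ' hy)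
      (U.el_transv_ne hee he0 hμ' hμ'0) h4
  push Not at hii
  have hfix : ∀ w : Fin n → F, hermForm n F q w e = 0 → u w = w := by
    intro w hw
    obtain ⟨a, ha⟩ := hi' w hw
    rw [hii w a hw ha, zero_smul, add_zero] at ha
    exact ha
  -- `u` is a transvection
  obtain ⟨z', hz'⟩ := exists_herm_ne_zero hF he0
  have hz'' : hermForm n F q z' e ≠ 0 := fun h0 => hz' (herm_eq_zero_swap hF h0)
  obtain ⟨b, hb⟩ : ∃ b, b = (hermForm n F q z' e)⁻¹ • z' := ⟨_, rfl⟩
  have hbe : hermForm n F q b e = 1 := by rw [hb, herm_smul_left, inv_mul_cancel₀ hz'']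
  have hv : ∀ v, δ v = hermForm n F q v e • δ b := by
    intro v
    have h3 : δ (v - hermForm n F q v e • b) = 0 := by
      rw [hδ, sub_eq_zero]
      apply hfix
      rw [herm_sub_left, herm_smul_left, hbe, mul_one, sub_self]
    have h4 : v = (v - hermForm n F q v e • b) + hermForm n F q v e • b := by abel
    conv_lhs => rw [h4, hδadd, h3, zero_add, hδlin]
  obtain ⟨ν, hν⟩ : ∃ ν : F, δ b = ν • e := by
    by_contra hcon
    push Not at hcon
    obtain ⟨w, hw1, hw2⟩ := exists_perp_eq hF hcon 1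
    have h3 := hherm w b
    rw [hfix w hw1] at h3
    have h4 : u b = δ b + b := by rw [hδ]; abel
    rw [h4, herm_add_right hF, hw2, add_eq_right] at h3
    exact one_ne_zero h3
  have hv' : ∀ v, u v = v + (ν * hermForm n F q v e) • e := by
    intro v
    have h3 := hv v
    rw [hν, hδ, smul_smul, mul_comm] at h3
    rw [← h3]
    abel
  have hν1 : ν ^ q = ν := by
    have h3 := hc b
    rw [hv', hv', hT.add, hT.smul, hTe, hbe, mul_one] at h3
    have h4 : hermForm n F q (T b) e = 1 := by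
      rw [← hTe, hT.herm, hbe, one_pow]
    rw [h4, mul_one] at h3
    have h5 : (ν - ν ^ q) • e = 0 := by
      rw [sub_smul, sub_eq_zero]
      exact add_left_cancel h3
    exact (sub_eq_zero.1 ((smul_eq_zero.1 h5).resolve_right he0)).symm
  have hν2 : ν + ν ^ q = 0 := by
    have h3 := hherm b b
    have h4 : hermForm n F q e b = 1 := by rw [herm_swap hF, hbe, one_pow]
    rw [hv', hbe, mul_one, herm_add_left, herm_add_right hF, herm_add_right hF, herm_smul_left, herm_smul_left,
      herm_smul_right, herm_smul_right, hbe, h4, hee] at h3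
    linear_combination h3
  have hν0 : ν = 0 := by
    rw [hν1, ← two_mul] at hν2
    exact (mul_eq_zero.1 hν2).resolve_left hp2
  apply hy
  rw [h2.eq_one_iff]
  refine ⟨1, fun v => ?_⟩
  rw [hv', hν0, zero_mul, zero_smul, add_zero, one_smul]

end env

theorem symZero : SymZero := by
  intro G Ω _ _ _ _ _ N F _ _ n q U ι _ x f r i₀ T hG hq hcov hv hnc
  have hT := symT_of hG hv
  have hpf := hG.fam.pf
  by_cases hex : ∃ j, j ≠ i₀
  · obtain ⟨j, hj⟩ := hex
    have hall : ∀ i, i = i₀ ∨ i = j := by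
      intro i
      by_cases hi : i = i₀
      · exact Or.inl hi
      right
      apply hpf.inj
      obtain ⟨p, k, hp, -, hk, -⟩ := exists_prime_pow U.hF
      have key : ∀ l, l ≠ i₀ → r l = p := by
        intro l hl
        have h1 := hnc l hl
        rw [(hpf.prime l).coprime_iff_not_dvd, not_not, hk] at h1
        exact (Nat.prime_dvd_prime_iff_eq (hpf.prime l) hp).1 ((hpf.prime l).dvd_of_dvd_pow h1)
      rw [key i hi, key j hj]
    have h1 := hnc j hj
    rw [(hpf.prime j).coprime_iff_not_dvd, not_not] at h1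
    obtain ⟨k, hk⟩ := hG.fam.ord j
    refine zero_pair U hq hT (lft_T hG hT) (hG.fam.lft j) (hG.lin j hj) (hG.comm j hj) (hpf.ne j) (hpf.prime j) h1
      hk fun ω => ?_
    obtain ⟨i, hi⟩ := hcov ω
    rcases hall i with rfl | rfl
    · exact Or.inl hi
    · exact Or.inr hi
  · push Not at hex
    apply hpf.ne i₀
    refine U.env.single fun ω => ?_
    obtain ⟨i, hi⟩ := hcov ω
    rwa [hex i] at hi

end Cfsg.Agent.H438.RC
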